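import Groth.Prelude.Def_FilD
import Mathlib.Algebra.Homology.ShortComplex.Abelian
import Mathlib.Algebra.Homology.ShortComplex.ExactFunctor
import Mathlib.CategoryTheory.Abelian.Refinements
import Mathlib.CategoryTheory.Limits.FunctorCategory.Basic

/-!
Basic calculus of finite filtered objects: steps, graded pieces, strictness, and exactness read off
the graded pieces.
-/

set_option autoImplicit false

universe v u

open CategoryTheory CategoryTheory.Limits Opposite FilD

namespace Groth.Agent.FilT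

variable {A : Type u} [Category.{v} A] [Abelian A]

/-- The `p`-th step. -/
abbrev lev (F : FilF A) (p : ℤ) : A := F.obj.obj (op p)

/-- The inclusion of a step in a larger one. -/
abbrev incl (F : FilF A) {p q : ℤ} (h : p ≤ q) : lev F q ⟶ lev F p := F.obj.map (homOfLE h).op

/-- The inclusion of a step in the preceding one. -/
abbrev sh (F : FilF A) (p : ℤ) : lev F (p + 1) ⟶ lev F p := F.obj.map (stepHom p)

/-- The projection to the graded piece. -/
noncomputable abbrev π (F : FilF A) (p : ℤ) : lev F p ⟶ (grF A p).obj F := cokernel.π (sh F p)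

/-- The component of a morphism. -/
abbrev app {F G : FilF A} (φ : F ⟶ G) (p : ℤ) : lev F p ⟶ lev G p := φ.hom.app (op p)

instance (F : FilF A) {p q : ℤ} (h : p ≤ q) : Mono (incl F h) := F.property.1 _

instance (F : FilF A) (p : ℤ) : Mono (sh F p) := F.property.1 _

instance (F : FilF A) (p : ℤ) : Epi (π F p) :=
  inferInstanceAs (Epi (cokernel.π (sh F p)))

theorem sh_π (F : FilF A) (p : ℤ) : sh F p ≫ π F p = 0 := cokernel.condition _

@[reassoc]
theorem π_grMap {F G : FilF A} (φ : F ⟶ G) (p : ℤ) :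
    π F p ≫ (grF A p).map φ = app φ p ≫ π G p := cokernel.π_desc _ _ _

@[reassoc]
theorem sh_app {F G : FilF A} (φ : F ⟶ G) (p : ℤ) : sh F p ≫ app φ p = app φ (p + 1) ≫ sh G p :=
  φ.hom.naturality _

@[reassoc]
theorem incl_app {F G : FilF A} (φ : F ⟶ G) {p q : ℤ} (h : p ≤ q) :
    incl F h ≫ app φ p = app φ q ≫ incl G h :=
  φ.hom.naturality _

theorem incl_refl (F : FilF A) (p : ℤ) (h : p ≤ p) : incl F h = 𝟙 _ :=
  (congrArg F.obj.map (Subsingleton.elim _ (𝟙 (op p)))).trans (F.obj.map_id _)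

@[reassoc]
theorem incl_comp (F : FilF A) {p q r : ℤ} (h : p ≤ q) (h' : q ≤ r) (h'' : p ≤ r) :
    incl F h' ≫ incl F h = incl F h'' :=
  (F.obj.map_comp _ _).symm.trans (congrArg F.obj.map (Subsingleton.elim _ _))

theorem sh_eq_incl (F : FilF A) (p : ℤ) : sh F p = incl F (Int.le_add_one le_rfl : p ≤ p + 1) := rfl

theorem exists_zero_above (F : FilF A) : ∃ b : ℤ, ∀ p, b ≤ p → IsZero (lev F p) := F.property.2.1

theorem exists_isIso_below (F : FilF A) :
    ∃ a : ℤ, ∀ (p q : ℤ) (h : p ≤ q), q ≤ a → IsIso (incl F h) := by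
  obtain ⟨a, ha⟩ := F.property.2.2
  exact ⟨a, fun p q h hq => ha _ hq⟩

theorem exists_step {F : FilF A} {p : ℤ} {T : A} (x : T ⟶ lev F p) (hx : x ≫ π F p = 0) :
    ∃ x' : T ⟶ lev F (p + 1), x' ≫ sh F p = x :=
  ⟨Abelian.monoLift (sh F p) x hx, Abelian.monoLift_comp _ _ _⟩

theorem exists_lift_π (F : FilF A) (p : ℤ) {T : A} (y : T ⟶ (grF A p).obj F) :
    ∃ (T' : A) (e : T' ⟶ T) (_ : Epi e) (x : T' ⟶ lev F p), e ≫ y = x ≫ π F p :=
  surjective_up_to_refinements_of_epi (π F p) y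

/-- The evaluation of a short complex at a step. -/
abbrev ev (p : ℤ) : FilF A ⥤ A := (IsFinFil A).ι ⋙ (evaluation ℤᵒᵖ A).obj (op p)

@[reassoc]
theorem app_comp_app (S : ShortComplex (FilF A)) (p : ℤ) : app S.f p ≫ app S.g p = 0 :=
  (S.map (ev p)).zero

/-- Correcting an element by the image of `S.f` so that it falls into the next step. -/
theorem exists_correction {S : ShortComplex (FilF A)} {p : ℤ} (hS : (S.map (grF A p)).Exact) {T : A}
    (y : T ⟶ lev S.X₂ p) (hy : y ≫ app S.g p ≫ π S.X₃ p = 0) :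
    ∃ (T' : A) (e : T' ⟶ T) (_ : Epi e) (x : T' ⟶ lev S.X₁ p) (y' : T' ⟶ lev S.X₂ (p + 1)),
      e ≫ y = x ≫ app S.f p + y' ≫ sh S.X₂ p := by
  obtain ⟨T₁, e₁, he₁, z, hz⟩ : ∃ (T₁ : A) (e₁ : T₁ ⟶ T) (_ : Epi e₁) (z : T₁ ⟶ (grF A p).obj S.X₁),
      e₁ ≫ y ≫ π S.X₂ p = z ≫ (grF A p).map S.f :=
    hS.exact_up_to_refinements (y ≫ π S.X₂ p) ((Category.assoc _ _ _).trans
      ((congrArg (y ≫ ·) (π_grMap S.g p)).trans hy))
  obtain ⟨T₂, e₂, he₂, x, hx⟩ := exists_lift_π S.X₁ p z
  obtain ⟨y', hy'⟩ := exists_step (e₂ ≫ e₁ ≫ y - x ≫ app S.f p) (by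
    rw [Preadditive.sub_comp, Category.assoc, Category.assoc, hz, reassoc_of% hx, π_grMap,
      Category.assoc, sub_self])
  exact ⟨T₂, e₂ ≫ e₁, inferInstance, x, y', by rw [hy', Category.assoc]; abel⟩

/-- Exactness of a step, element by element. -/
theorem exists_lev_lift {S : ShortComplex (FilF A)} {p : ℤ} (hS : (S.map (ev p)).Exact) {T : A}
    (y : T ⟶ lev S.X₂ p) (hy : y ≫ app S.g p = 0) :
    ∃ (T' : A) (e : T' ⟶ T) (_ : Epi e) (x : T' ⟶ lev S.X₁ p), e ≫ y = x ≫ app S.f p :=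
  hS.exact_up_to_refinements y hy

/-- Exactness of all graded pieces gives exactness of all steps. -/
theorem exact_lev {S : ShortComplex (FilF A)} (hS : ∀ p, (S.map (grF A p)).Exact) (p : ℤ) :
    (S.map (ev p)).Exact := by
  obtain ⟨b, hb⟩ := exists_zero_above S.X₂
  suffices ∀ (k : ℕ) (p : ℤ), b ≤ p + k → (S.map (ev p)).Exact from this (b - p).toNat p (by omega)
  intro k
  induction k with
  | zero => exact fun p hp => ShortComplex.exact_of_isZero_X₂ _ (hb p (by omega))
  | succ k ih =>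
    intro p hp
    rw [ShortComplex.exact_iff_exact_up_to_refinements]
    intro T (y : T ⟶ lev S.X₂ p) (hy : y ≫ app S.g p = 0)
    obtain ⟨T₁, e₁, he₁, x, y', h₁⟩ := exists_correction (hS p) y (by rw [reassoc_of% hy, zero_comp])
    obtain ⟨T₂, e₂, he₂, x', h₂⟩ := exists_lev_lift (ih (p + 1) (by omega)) y' (by
      rw [← cancel_mono (sh S.X₃ p), zero_comp, Category.assoc, ← sh_app]
      have := congrArg (· ≫ app S.g p) h₁
      simp only [Category.assoc, hy, comp_zero, Preadditive.add_comp, app_comp_app, zero_add] at this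
      exact this.symm)
    refine ⟨T₂, e₂ ≫ e₁, inferInstance, e₂ ≫ x + x' ≫ sh S.X₁ p, ?_⟩
    show (e₂ ≫ e₁) ≫ y = (e₂ ≫ x + x' ≫ sh S.X₁ p) ≫ app S.f p
    rw [Category.assoc, h₁, Preadditive.comp_add, reassoc_of% h₂, Preadditive.add_comp,
      Category.assoc, Category.assoc, sh_app]

theorem isStrict_of {F G : FilF A} (φ : F ⟶ G)
    (H : ∀ (p : ℤ) (T : A) (x : T ⟶ lev F p) (y : T ⟶ lev G (p + 1)), x ≫ app φ p = y ≫ sh G p →
      ∃ (T' : A) (e : T' ⟶ T) (_ : Epi e) (x' : T' ⟶ lev F (p + 1)), x' ≫ app φ (p + 1) = e ≫ y) :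
    IsStrict φ := by
  have key : ∀ (k : ℕ) (p q : ℤ) (h : p ≤ q), q = p + k → ∀ (T : A) (x : T ⟶ lev F p)
      (y : T ⟶ lev G q), x ≫ app φ p = y ≫ incl G h →
      ∃ (T' : A) (e : T' ⟶ T) (_ : Epi e) (x' : T' ⟶ lev F q), x' ≫ app φ q = e ≫ y := by
    intro k
    induction k with
    | zero =>
      intro p q h hq T x y hxy
      obtain rfl : q = p := by omega
      exact ⟨T, 𝟙 T, inferInstance, x, by rw [hxy, incl_refl, Category.comp_id, Category.id_comp]⟩
    | succ k ih =>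
      intro p q h hq T x y hxy
      obtain ⟨T₁, e₁, he₁, x₁, hx₁⟩ := H p T x (y ≫ incl G (show p + 1 ≤ q by omega)) (by
        rw [hxy, Category.assoc, sh_eq_incl, incl_comp])
      obtain ⟨T₂, e₂, he₂, x₂, hx₂⟩ := ih (p + 1) q (by omega) (by omega) T₁ x₁ (e₁ ≫ y) (by
        rw [hx₁, Category.assoc])
      exact ⟨T₂, e₂ ≫ e₁, inferInstance, x₂, by rw [hx₂, Category.assoc]⟩
  intro p q h
  refine le_antisymm (le_inf ?_ ?_) ?_
  · refine imageSubobject_le _ (incl F h ≫ factorThruImageSubobject (app φ p)) ?_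
    rw [Category.assoc, imageSubobject_arrow_comp]
    exact incl_app φ h
  · exact imageSubobject_le_mk _ _ (app φ q) rfl
  · let W := imageSubobject (app φ p) ⊓ Subobject.mk (incl G h)
    obtain ⟨g₁, hg₁⟩ : ∃ g₁, g₁ ≫ (imageSubobject (app φ p)).arrow = W.arrow :=
      ⟨_, Subobject.factorThru_arrow _ _ (Subobject.inf_arrow_factors_left _ _)⟩
    obtain ⟨g₂, hg₂⟩ : ∃ g₂ : Subobject.underlying.obj W ⟶ lev G q, g₂ ≫ incl G h = W.arrow :=
      (Subobject.mk_factors_iff (incl G h) W.arrow).1 (Subobject.inf_arrow_factors_right _ _)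
    obtain ⟨T, e, he, x, hx⟩ :=
      surjective_up_to_refinements_of_epi (factorThruImageSubobject (app φ p)) g₁
    obtain ⟨T', e', he', x', hx'⟩ := key (q - p).toNat p q h (by omega) T x (e ≫ g₂) (by
      rw [Category.assoc, hg₂, ← hg₁]
      change x ≫ app φ p = e ≫ g₁ ≫ (imageSubobject (app φ p)).arrow
      rw [reassoc_of% hx, imageSubobject_arrow_comp])
    let τ := app φ q ≫ incl G h
    have : StrongEpi (e' ≫ e) := strongEpi_of_epi _
    have sq : CommSq (x' ≫ factorThruImageSubobject τ) (e' ≫ e) (imageSubobject τ).arrow W.arrow := ⟨by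
      rw [Category.assoc, imageSubobject_arrow_comp, reassoc_of% hx', Category.assoc, hg₂]⟩
    exact Subobject.le_of_comm sq.lift sq.fac_right

/-- A morphism whose two neighbours have exact graded pieces is strict. -/
theorem isStrict_g {S : ShortComplex (FilF A)} (hS : ∀ p, (S.map (grF A p)).Exact) :
    IsStrict S.g := by
  refine isStrict_of _ fun p T x y hxy => ?_
  obtain ⟨T₁, e₁, he₁, w, x', h₁⟩ := exists_correction (hS p) x (by
    rw [reassoc_of% hxy, sh_π, comp_zero])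
  refine ⟨T₁, e₁, he₁, x', ?_⟩
  rw [← cancel_mono (sh S.X₃ p), Category.assoc, ← sh_app]
  have := congrArg (· ≫ app S.g p) h₁
  simp only [Category.assoc, hxy, Preadditive.add_comp, app_comp_app, comp_zero, zero_add] at this
  rw [Category.assoc, this]

theorem isStrict_f {S : ShortComplex (FilF A)} (hS : ∀ p, (S.map (grF A p)).Exact) :
    IsStrict S.f := by
  refine isStrict_of _ fun p T x y hxy => ?_
  obtain ⟨T₁, e₁, he₁, x', hx'⟩ := exists_lev_lift (exact_lev hS (p + 1)) y (by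
    rw [← cancel_mono (sh S.X₃ p), zero_comp, Category.assoc, ← sh_app, ← Category.assoc, ← hxy,
      Category.assoc, app_comp_app, comp_zero])
  exact ⟨T₁, e₁, he₁, x', hx'.symm⟩

/-- Strictness, element by element. -/
theorem exists_of_isStrict {F G : FilF A} {φ : F ⟶ G} (hφ : IsStrict φ) (p : ℤ) {T : A}
    (x : T ⟶ lev F p) (y : T ⟶ lev G (p + 1)) (hxy : x ≫ app φ p = y ≫ sh G p) :
    ∃ (T' : A) (e : T' ⟶ T) (_ : Epi e) (x' : T' ⟶ lev F (p + 1)), x' ≫ app φ (p + 1) = e ≫ y := by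
  let τ := app φ (p + 1) ≫ sh G p
  have hfac : (imageSubobject τ).Factors (y ≫ sh G p) := by
    refine Subobject.factors_of_le _ (le_of_eq (hφ p (p + 1) (Int.le_add_one le_rfl)).symm) ?_
    rw [Subobject.inf_factors]
    constructor
    · rw [← hxy]
      exact imageSubobject_factors_comp_self _ _
    · exact (Subobject.mk_factors_iff _ _).2 ⟨y, rfl⟩
  obtain ⟨g, hg⟩ : ∃ g, g ≫ (imageSubobject τ).arrow = y ≫ sh G p :=
    ⟨_, Subobject.factorThru_arrow _ _ hfac⟩
  obtain ⟨T', e, he, x', hx'⟩ := surjective_up_to_refinements_of_epi (factorThruImageSubobject τ) g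
  refine ⟨T', e, he, x', ?_⟩
  rw [← cancel_mono (sh G p), Category.assoc, Category.assoc]
  change x' ≫ τ = e ≫ y ≫ sh G p
  rw [← imageSubobject_arrow_comp τ, ← reassoc_of% hx', hg]

end Groth.Agent.FilT
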