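import Groth.Agent.Lib.FilT.Homotopy
import Mathlib.Algebra.Homology.HomotopyCategory.Pretriangulated
import Mathlib.Algebra.Homology.HomotopyCategory.Triangulated
import Mathlib.Algebra.Homology.HomotopyCategory.Acyclic
import Mathlib.Algebra.Homology.HomotopyCategory.Shift

/-!
Bounded below complexes of filtered injective objects see filtered quasi-isomorphisms as
isomorphisms up to homotopy.
-/

set_option autoImplicit false

universe v u

open CategoryTheory CategoryTheory.Limits CategoryTheory.Pretriangulated Opposite FilD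

namespace Groth.Agent.FilT

variable {A : Type u} [Category.{v} A] [Abelian A]

instance (p : ℤ) : (grF A p).Additive := inferInstance

theorem exactAt_mappingCone_of_quasiIso {K L : CochainComplex A ℤ} (f : K ⟶ L) [_root_.QuasiIso f] (n : ℤ) :
    (CochainComplex.mappingCone f).ExactAt n := by
  have h := (HomotopyCategory.subcategoryAcyclic A).trW_iff_of_distinguished _
    (HomotopyCategory.mappingCone_triangleh_distinguished f)
  rw [← HomotopyCategory.quasiIso_eq_trW_subcategoryAcyclic] at h
  exact (HomotopyCategory.quotient_obj_mem_subcategoryAcyclic_iff_exactAt _).1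
    (h.1 ((HomotopyCategory.quotient_map_mem_quasiIso_iff f).2 (show _root_.QuasiIso f from inferInstance))) n

theorem isFilteredAcyclic_mappingCone {K L : CochainComplex (FilF A) ℤ} (α : K ⟶ L)
    (hα : IsFilteredQuasiIso α) : IsFilteredAcyclic (CochainComplex.mappingCone α) := fun p n => by
  have := hα p
  exact HomologicalComplex.ExactAt.of_iso (exactAt_mappingCone_of_quasiIso ((grCx p).map α) n)
    (CochainComplex.mappingCone.mapHomologicalComplexIso α (grF A p)).symm

variable {I : CochainComplex (FilF A) ℤ} (a : ℤ) [I.IsStrictlyGE a]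

include a

theorem quotient_eq_zero {C : CochainComplex (FilF A) ℤ} (hC : IsFilteredAcyclic C)
    (hI : ∀ n, IsFilteredInjective (I.X n))
    (g : (HomotopyCategory.quotient (FilF A) (ComplexShape.up ℤ)).obj C ⟶
      (HomotopyCategory.quotient (FilF A) (ComplexShape.up ℤ)).obj I) : g = 0 := by
  obtain ⟨g, rfl⟩ := (HomotopyCategory.quotient (FilF A) (ComplexShape.up ℤ)).map_surjective g
  obtain ⟨h⟩ := exists_homotopy_zero C I hC a hI g
  rw [HomotopyCategory.eq_of_homotopy _ _ h, Functor.map_zero]

theorem bijective_precomp (hI : ∀ n, IsFilteredInjective (I.X n)) {K L : CochainComplex (FilF A) ℤ}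
    (α : K ⟶ L) (hα : IsFilteredQuasiIso α) :
    Function.Bijective (fun β : (HomotopyCategory.quotient (FilF A) (ComplexShape.up ℤ)).obj L ⟶
        (HomotopyCategory.quotient (FilF A) (ComplexShape.up ℤ)).obj I =>
      (HomotopyCategory.quotient (FilF A) (ComplexShape.up ℤ)).map α ≫ β) := by
  let Q := HomotopyCategory.quotient (FilF A) (ComplexShape.up ℤ)
  have hT := HomotopyCategory.mappingCone_triangleh_distinguished α
  have hC := isFilteredAcyclic_mappingCone α hα
  constructor
  · intro β₁ β₂ h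
    dsimp only at h
    obtain ⟨g, hg⟩ := Triangle.yoneda_exact₂ _ hT (β₁ - β₂) (by
      change Q.map α ≫ (β₁ - β₂) = 0
      rw [Preadditive.comp_sub, h, sub_self])
    exact sub_eq_zero.1 (hg.trans (by rw [quotient_eq_zero a hC hI g]; exact comp_zero))
  · intro γ
    have := I.isStrictlyGE_shift a 1 (a - 1) (by omega)
    let e := ((Q.commShiftIso (1 : ℤ)).app I).symm
    have hz : (CochainComplex.mappingCone.triangleh α).mor₃ ≫ γ⟦(1 : ℤ)⟧' = 0 := by
      have h0 := quotient_eq_zero (I := I⟦(1 : ℤ)⟧) (a - 1) hC (fun n => hI _)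
        ((CochainComplex.mappingCone.triangleh α).mor₃ ≫ γ⟦(1 : ℤ)⟧' ≫ e.hom)
      exact (cancel_mono e.hom).1 ((Category.assoc _ _ _).trans (h0.trans zero_comp.symm))
    obtain ⟨g, hg⟩ := Triangle.yoneda_exact₂ _ (rot_of_distTriang _ (rot_of_distTriang _ hT))
      (γ⟦(1 : ℤ)⟧') hz
    obtain ⟨g', rfl⟩ : ∃ g' : Q.obj L ⟶ Q.obj I, g'⟦(1 : ℤ)⟧' = g :=
      (shiftFunctor (HomotopyCategory (FilF A) (ComplexShape.up ℤ)) (1 : ℤ)).map_surjective g
    refine ⟨-g', (shiftFunctor (HomotopyCategory (FilF A) (ComplexShape.up ℤ)) (1 : ℤ)).map_injective ?_⟩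
    refine Eq.trans ?_ hg.symm
    change (Q.map α ≫ (-g'))⟦(1 : ℤ)⟧' = (-((Q.map α)⟦(1 : ℤ)⟧')) ≫ g'⟦(1 : ℤ)⟧'
    rw [Functor.map_comp, Functor.map_neg, Preadditive.comp_neg, Preadditive.neg_comp]

end Groth.Agent.FilT
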