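import Groth.Agent.Lib.FilT.Basic
import Mathlib.CategoryTheory.Limits.Shapes.BinaryBiproducts
import Mathlib.CategoryTheory.Preadditive.Biproducts
import Mathlib.CategoryTheory.Limits.FunctorCategory.EpiMono

/-!
The category of finite filtered objects: kernels, biproducts, morphisms given on steps, and the
graded criterion for isomorphisms and monomorphisms.
-/

set_option autoImplicit false

universe v u

open CategoryTheory CategoryTheory.Limits Opposite FilD

namespace Groth.Agent.FilT

variable {A : Type u} [Category.{v} A] [Abelian A]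

theorem exists_kernel_lift {F G : ℤᵒᵖ ⥤ A} (φ : F ⟶ G) (p : ℤ) {T : A} (x : T ⟶ F.obj (op p))
    (hx : x ≫ φ.app (op p) = 0) :
    ∃ k : T ⟶ (kernel φ).obj (op p), k ≫ (kernel.ι φ).app (op p) = x := by
  obtain ⟨l, hl⟩ := KernelFork.IsLimit.lift'
    (KernelFork.mapIsLimit _ (kernelIsKernel φ) ((evaluation ℤᵒᵖ A).obj (op p))) x hx
  exact ⟨l, hl⟩

instance mono_kernel_ι_app {F G : ℤᵒᵖ ⥤ A} (φ : F ⟶ G) (p : ℤᵒᵖ) : Mono ((kernel.ι φ).app p) :=
  (NatTrans.mono_iff_mono_app _).1 inferInstance p

/-- A kernel of finite filtered objects is finite filtered. -/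
theorem isFinFil_kernel {F G : FilF A} (φ : F ⟶ G) : IsFinFil A (kernel φ.hom) := by
  refine ⟨fun p q f => ?_, ?_, ?_⟩
  · have : Mono ((kernel φ.hom).map f ≫ (kernel.ι φ.hom).app q) := by
      rw [(kernel.ι φ.hom).naturality]
      have := F.property.1 f
      exact mono_comp _ _
    exact mono_of_mono ((kernel φ.hom).map f) ((kernel.ι φ.hom).app q)
  · obtain ⟨b, hb⟩ := exists_zero_above F
    exact ⟨b, fun p hp => (hb p hp).of_mono ((kernel.ι φ.hom).app (op p))⟩
  · obtain ⟨a₁, ha₁⟩ := F.property.2.2
    obtain ⟨a₂, ha₂⟩ := G.property.2.2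
    refine ⟨min a₁ a₂, fun p q f hp => ?_⟩
    have := ha₁ f (by omega)
    have := ha₂ f (by omega)
    have hm : Mono ((kernel φ.hom).map f ≫ (kernel.ι φ.hom).app q) := by
      rw [(kernel.ι φ.hom).naturality]
      infer_instance
    obtain ⟨g, hg⟩ := exists_kernel_lift φ.hom p.unop ((kernel.ι φ.hom).app q ≫ inv (F.obj.map f)) (by
      change ((kernel.ι φ.hom).app q ≫ inv (F.obj.map f)) ≫ φ.hom.app p = 0
      rw [← cancel_mono (G.obj.map f), zero_comp, Category.assoc, Category.assoc, ← φ.hom.naturality,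
        IsIso.inv_hom_id_assoc, ← NatTrans.comp_app, kernel.condition]
      rfl)
    change g ≫ (kernel.ι φ.hom).app p = _ at hg
    refine ⟨g, ?_, ?_⟩
    · rw [← cancel_mono ((kernel.ι φ.hom).app p), Category.assoc, hg, Category.id_comp,
        (kernel.ι φ.hom).naturality_assoc, IsIso.hom_inv_id, Category.comp_id]
    · rw [← cancel_mono ((kernel.ι φ.hom).app q), Category.assoc, (kernel.ι φ.hom).naturality,
        reassoc_of% hg, IsIso.inv_hom_id, Category.comp_id, Category.id_comp]

theorem mono_app {F G : FilF A} (φ : F ⟶ G) [Mono φ] (p : ℤ) : Mono (app φ p) := by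
  let K : FilF A := ⟨kernel φ.hom, isFinFil_kernel φ⟩
  let ι : K ⟶ F := ⟨kernel.ι φ.hom⟩
  have h : ι ≫ φ = 0 := by
    ext : 1
    exact kernel.condition φ.hom
  refine Preadditive.mono_of_cancel_zero _ fun {T} x hx => ?_
  obtain ⟨k, hk⟩ := exists_kernel_lift φ.hom p x hx
  have h0 : ι = 0 := (cancel_mono φ).1 (h.trans zero_comp.symm)
  rw [← hk]
  exact (congrArg (k ≫ ·) (congrArg (fun f => app f p) h0)).trans comp_zero

/-- The biproduct of two filtered objects, computed on steps. -/
noncomputable def biprodObj (F G : FilF A) : FilF A :=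
  ⟨{ obj := fun p => F.obj.obj p ⊞ G.obj.obj p
     map := fun f => biprod.map (F.obj.map f) (G.obj.map f)
     map_id := fun p => by simp; exact biprod.hom_ext _ _ (by simp) (by simp)
     map_comp := fun f g => biprod.hom_ext _ _ (by simp) (by simp) }, by
    refine ⟨fun p q f => ?_, ?_, ?_⟩
    · have := F.property.1 f
      have := G.property.1 f
      dsimp
      infer_instance
    · obtain ⟨b₁, hb₁⟩ := exists_zero_above F
      obtain ⟨b₂, hb₂⟩ := exists_zero_above G
      exact ⟨max b₁ b₂, fun p hp => (biprod_isZero_iff _ _).2 ⟨hb₁ p (by omega), hb₂ p (by omega)⟩⟩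
    · obtain ⟨a₁, ha₁⟩ := F.property.2.2
      obtain ⟨a₂, ha₂⟩ := G.property.2.2
      refine ⟨min a₁ a₂, fun p q f hp => ?_⟩
      have := ha₁ f (by omega)
      have := ha₂ f (by omega)
      exact (biprod.mapIso (asIso (F.obj.map f)) (asIso (G.obj.map f))).isIso_hom⟩

instance : HasBinaryBiproducts (FilF A) where
  has_binary_biproduct F G :=
    hasBinaryBiproduct_of_total
      { pt := biprodObj F G
        fst := ⟨{ app := fun _ => biprod.fst, naturality := fun _ _ _ => biprod.map_fst _ _ }⟩
        snd := ⟨{ app := fun _ => biprod.snd, naturality := fun _ _ _ => biprod.map_snd _ _ }⟩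
        inl := ⟨{ app := fun _ => biprod.inl, naturality := fun _ _ _ => (biprod.inl_map _ _).symm }⟩
        inr := ⟨{ app := fun _ => biprod.inr, naturality := fun _ _ _ => (biprod.inr_map _ _).symm }⟩
        inl_fst := by ext : 3; exact biprod.inl_fst
        inl_snd := by ext : 3; exact biprod.inl_snd
        inr_fst := by ext : 3; exact biprod.inr_fst
        inr_snd := by ext : 3; exact biprod.inr_snd }
      (by ext : 3; exact biprod.total)

/-- A morphism given on steps. -/
def homMk {F G : FilF A} (g : ∀ p, lev F p ⟶ lev G p)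
    (hg : ∀ p, sh F p ≫ g p = g (p + 1) ≫ sh G p) : F ⟶ G :=
  ⟨{ app := fun p => g p.unop
     naturality := by
       intro p q f
       have key : ∀ (k : ℕ) (i j : ℤ) (h : i ≤ j), j = i + k → incl F h ≫ g i = g j ≫ incl G h := by
         intro k
         induction k with
         | zero =>
           intro i j h hj
           obtain rfl : j = i := by omega
           rw [incl_refl, incl_refl, Category.id_comp, Category.comp_id]
         | succ k ih =>
           intro i j h hj
           rw [← incl_comp F (Int.le_add_one le_rfl : i ≤ i + 1) (show i + 1 ≤ j by omega) h,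
             ← incl_comp G (Int.le_add_one le_rfl : i ≤ i + 1) (show i + 1 ≤ j by omega) h,
             Category.assoc, ← sh_eq_incl, hg, reassoc_of% (ih (i + 1) j (by omega) (by omega))]
           rfl
       have h : q.unop ≤ p.unop := leOfHom f.unop
       exact key (p.unop - q.unop).toNat _ _ h (by omega) }⟩

@[simp]
theorem app_homMk {F G : FilF A} (g : ∀ p, lev F p ⟶ lev G p)
    (hg : ∀ p, sh F p ≫ g p = g (p + 1) ≫ sh G p) (p : ℤ) : app (homMk g hg) p = g p := rfl

/-- Morphisms are determined on steps. -/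
theorem hom_ext {F G : FilF A} {f g : F ⟶ G} (h : ∀ p, app f p = app g p) : f = g := by
  exact ObjectProperty.hom_ext _ (NatTrans.ext (funext fun p => h p.unop))

/-- Monomorphy on graded pieces gives monomorphy on all steps. -/
theorem mono_app_of_gr {F G : FilF A} (φ : F ⟶ G) (h : ∀ p, Mono ((grF A p).map φ)) (p : ℤ) :
    Mono (app φ p) := by
  obtain ⟨b, hb⟩ := exists_zero_above F
  suffices ∀ (k : ℕ) (p : ℤ), b ≤ p + k → Mono (app φ p) from this (b - p).toNat p (by omega)
  intro k
  induction k with
  | zero => exact fun p hp => ⟨fun {T} f g _ => (hb p (by omega)).eq_of_tgt f g⟩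
  | succ k ih =>
    intro p hp
    refine Preadditive.mono_of_cancel_zero _ fun {T} x hx => ?_
    obtain ⟨x', rfl⟩ := exists_step x ((cancel_mono ((grF A p).map φ)).1 (by
      rw [Category.assoc, π_grMap, reassoc_of% hx, zero_comp, zero_comp]))
    rw [Category.assoc, sh_app, ← Category.assoc] at hx
    have := ih (p + 1) (by omega)
    rw [zero_of_comp_mono (app φ (p + 1)) (zero_of_comp_mono (sh G p) hx), zero_comp]

theorem mono_of_app {F G : FilF A} (φ : F ⟶ G) (h : ∀ p, Mono (app φ p)) : Mono φ :=
  ⟨fun {Z} f g hfg => hom_ext fun p => (cancel_mono (app φ p)).1 (congrArg (fun t => app t p) hfg)⟩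

/-- A strict morphism which is a monomorphism on steps is a monomorphism on graded pieces. -/
theorem mono_gr_of_isStrict {F G : FilF A} {φ : F ⟶ G} (hφ : IsStrict φ) (hm : ∀ p, Mono (app φ p))
    (p : ℤ) : Mono ((grF A p).map φ) := by
  refine Preadditive.mono_of_cancel_zero _ fun {T} z hz => ?_
  obtain ⟨T₁, e₁, he₁, x, hx⟩ := exists_lift_π F p z
  obtain ⟨y, hy⟩ := exists_step (x ≫ app φ p) (by
    rw [Category.assoc, ← π_grMap, ← reassoc_of% hx, hz, comp_zero])
  obtain ⟨T₂, e₂, he₂, x', hx'⟩ := exists_of_isStrict hφ p x y hy.symm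
  have : e₂ ≫ x = x' ≫ sh F p := by
    rw [← cancel_mono (app φ p), Category.assoc, Category.assoc, sh_app, reassoc_of% hx', hy]
  rw [← cancel_epi e₁, ← cancel_epi e₂, hx, reassoc_of% this, sh_π, comp_zero, comp_zero, comp_zero]

/-- A morphism which is a monomorphism on graded pieces is strict. -/
theorem isStrict_of_mono_gr {F G : FilF A} (φ : F ⟶ G) (h : ∀ p, Mono ((grF A p).map φ)) :
    IsStrict φ := by
  refine isStrict_of φ fun p T x y hxy => ?_
  obtain ⟨x', hx'⟩ := exists_step x ((cancel_mono ((grF A p).map φ)).1 (by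
    rw [Category.assoc, π_grMap, reassoc_of% hxy, sh_π, comp_zero, zero_comp]))
  refine ⟨T, 𝟙 T, inferInstance, x', ?_⟩
  rw [← cancel_mono (sh G p), Category.assoc, ← sh_app, reassoc_of% hx', hxy, Category.id_comp]

end Groth.Agent.FilT
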