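import Groth.Agent.Lib.FilT.Injective
import Mathlib.CategoryTheory.Limits.Shapes.Biproducts
import Mathlib.CategoryTheory.Preadditive.Biproducts
import Mathlib.Data.Int.Interval
import Mathlib.Data.Finset.Order

/-!
Every finite filtered object embeds strictly into a filtered injective one.
-/

set_option autoImplicit false

universe v u

open CategoryTheory CategoryTheory.Limits Opposite FilD

namespace Groth.Agent.FilT

variable {A : Type u} [Category.{v} A] [Abelian A]

attribute [local instance] Abelian.hasFiniteBiproducts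

section Jump

variable (s : Finset ℤ) (E : ℤ → A)

/-- The `p`-th step of the split filtered object with jumps `E r`, `r ∈ s`. -/
noncomputable abbrev jumpLev (p : ℤ) : A := ⨁ fun r : {r : s // p ≤ r.1} => E r.1

/-- The inclusion of steps of the split filtered object. -/
noncomputable abbrev jumpIncl {p q : ℤ} (h : p ≤ q) : jumpLev s E q ⟶ jumpLev s E p :=
  biproduct.desc fun r => biproduct.ι (fun r : {r : s // p ≤ r.1} => E r.1) ⟨r.1, h.trans r.2⟩

/-- The projection back. -/
noncomputable abbrev jumpProj {p q : ℤ} (h : p ≤ q) : jumpLev s E p ⟶ jumpLev s E q :=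
  biproduct.lift fun r => biproduct.π (fun r : {r : s // p ≤ r.1} => E r.1) ⟨r.1, h.trans r.2⟩

theorem jumpIncl_proj {p q : ℤ} (h : p ≤ q) : jumpIncl s E h ≫ jumpProj s E h = 𝟙 _ := by
  classical
  refine biproduct.hom_ext' _ _ fun r => biproduct.hom_ext _ _ fun r' => ?_
  rw [Category.assoc, Category.assoc, biproduct.lift_π, biproduct.ι_desc_assoc, Category.comp_id,
    biproduct.ι_π, biproduct.ι_π]
  by_cases hr : r = r'
  · subst hr
    simp
  · rw [dif_neg hr, dif_neg]
    intro hc
    exact hr (Subtype.ext (Subtype.mk.inj hc))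

/-- The split filtered object with jumps `E r` in degree `r ∈ s`. -/
noncomputable def jump : FilF A :=
  ⟨{ obj := fun p => jumpLev s E p.unop
     map := fun f => jumpIncl s E (leOfHom f.unop)
     map_id := fun p => biproduct.hom_ext' _ _ fun r => by simp
     map_comp := fun f g => biproduct.hom_ext' _ _ fun r => by simp }, by
    refine ⟨fun p q f => ?_, ?_, ?_⟩
    · exact mono_of_mono_fac (jumpIncl_proj s E (leOfHom f.unop))
    · obtain ⟨b, hb⟩ := s.exists_le
      refine ⟨b + 1, fun p hp => (IsZero.iff_id_eq_zero _).2 (biproduct.hom_ext' _ _ fun r => ?_)⟩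
      have h₁ : r.1.1 ≤ b := hb _ r.1.2
      have h₂ : p ≤ r.1.1 := r.2
      omega
    · obtain ⟨a, ha⟩ := (s.image Neg.neg).exists_le
      refine ⟨-a, fun p q f hp => ⟨jumpProj s E (leOfHom f.unop), jumpIncl_proj s E _, ?_⟩⟩
      refine biproduct.hom_ext' _ _ fun r => biproduct.hom_ext _ _ fun r' => ?_
      classical
      change (biproduct.ι _ r ≫ jumpProj s E (leOfHom f.unop) ≫ jumpIncl s E (leOfHom f.unop)) ≫
        biproduct.π _ r' = (biproduct.ι (fun r : {r : s // q.unop ≤ r.1} => E r.1) r ≫ 𝟙 _) ≫ biproduct.π _ r'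
      have h' : p.unop ≤ r'.1.1 := by
        have := ha _ (Finset.mem_image_of_mem _ r'.1.2)
        omega
      have : jumpIncl s E (leOfHom f.unop) ≫ biproduct.π _ r' =
          biproduct.π (fun r : {r : s // p.unop ≤ r.1} => E r.1) ⟨r'.1, h'⟩ := by
        refine biproduct.hom_ext' _ _ fun t => ?_
        rw [biproduct.ι_desc_assoc, biproduct.ι_π, biproduct.ι_π]
        by_cases ht : t = ⟨r'.1, h'⟩
        · subst ht
          simp
        · rw [dif_neg ht, dif_neg]
          intro hc
          subst hc
          exact ht rfl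
      rw [Category.assoc, Category.assoc, this, biproduct.lift_π, Category.comp_id]⟩

theorem injective_gr_jump (hE : ∀ r, Injective (E r)) : IsFilteredInjective (jump s E) := by
  intro p
  have hI : Injective (lev (jump s E) p) := inferInstanceAs (Injective (jumpLev s E p))
  let ρ : lev (jump s E) p ⟶ lev (jump s E) (p + 1) := jumpProj s E (Int.le_add_one le_rfl)
  have hρ : sh (jump s E) p ≫ ρ = 𝟙 _ := jumpIncl_proj s E _
  let σ : (grF A p).obj (jump s E) ⟶ lev (jump s E) p :=
    cokernel.desc (sh (jump s E) p) (𝟙 _ - ρ ≫ sh (jump s E) p) (by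
      rw [Preadditive.comp_sub, reassoc_of% hρ, Category.comp_id, sub_self])
  have hσ : σ ≫ π (jump s E) p = 𝟙 _ := by
    rw [← cancel_epi (π (jump s E) p)]
    change cokernel.π _ ≫ cokernel.desc _ _ _ ≫ _ = _
    rw [cokernel.π_desc_assoc, Preadditive.sub_comp, Category.assoc, sh_π, comp_zero, sub_zero,
      Category.id_comp]
    exact (Category.comp_id _).symm
  exact ⟨fun {X Y} g f _ => ⟨Injective.factorThru (g ≫ σ) f ≫ π (jump s E) p, by
    rw [Injective.comp_factorThru_assoc, Category.assoc, hσ, Category.comp_id]⟩⟩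

end Jump

theorem exists_strict_envelope [EnoughInjectives A] (X : FilF A) :
    ∃ (I : FilF A) (u : X ⟶ I), IsFilteredInjective I ∧ ∀ p, Mono ((grF A p).map u) := by
  classical
  obtain ⟨a, ha⟩ := exists_isIso_below X
  obtain ⟨b, hb⟩ := exists_zero_above X
  let τ : ∀ p, lev X p ⟶ lev X a := fun p =>
    haveI := ha (min p a) a (min_le_right p a) le_rfl
    incl X (min_le_left p a) ≫ inv (incl X (min_le_right p a))
  have hτ : ∀ p, sh X p ≫ τ p = τ (p + 1) := fun p => by
    have := ha (min p a) a (min_le_right p a) le_rfl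
    have := ha (min (p + 1) a) a (min_le_right (p + 1) a) le_rfl
    simp only [τ]
    rw [← cancel_mono (incl X (min_le_right p a)), Category.assoc, Category.assoc,
      IsIso.inv_hom_id, Category.comp_id,
      ← incl_comp X (show min p a ≤ min (p + 1) a by omega) (min_le_right (p + 1) a) (min_le_right p a),
      Category.assoc, IsIso.inv_hom_id_assoc, sh_eq_incl, incl_comp X _ _ (show min p a ≤ p + 1 by omega),
      incl_comp X _ _ (show min p a ≤ p + 1 by omega)]
  have hτ' : ∀ p (h : a ≤ p), τ p = incl X h := fun p h => by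
    have := ha (min p a) a (min_le_right p a) le_rfl
    simp only [τ]
    rw [IsIso.comp_inv_eq, incl_comp]
  let s : Finset ℤ := Finset.Ico a b
  let E : ℤ → A := fun r => Injective.under ((grF A r).obj X)
  have hs : ∀ r : s, a ≤ r.1 := fun r => (Finset.mem_Ico.1 r.2).1
  have hext : ∀ r : s, ∃ e : lev X a ⟶ E r.1, incl X (hs r) ≫ e = π X r.1 ≫ Injective.ι _ :=
    fun r => ⟨Injective.factorThru _ _, Injective.comp_factorThru _ _⟩
  choose e he using hext
  let u₀ : ∀ p, lev X p ⟶ jumpLev s E p := fun p => biproduct.lift fun r => τ p ≫ e r.1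
  have hu₀ : ∀ p, sh X p ≫ u₀ p = u₀ (p + 1) ≫ jumpIncl s E (Int.le_add_one le_rfl) := by
    intro p
    refine biproduct.hom_ext _ _ fun r => ?_
    simp only [u₀]
    rw [Category.assoc, Category.assoc, biproduct.lift_π, reassoc_of% hτ]
    by_cases hr : p + 1 ≤ r.1.1
    · have : jumpIncl s E (Int.le_add_one le_rfl : p ≤ p + 1) ≫ biproduct.π _ r =
          biproduct.π (fun r : {r : s // p + 1 ≤ r.1} => E r.1) ⟨r.1, hr⟩ := by
        refine biproduct.hom_ext' _ _ fun t => ?_
        rw [biproduct.ι_desc_assoc, biproduct.ι_π, biproduct.ι_π]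
        by_cases ht : t = ⟨r.1, hr⟩
        · subst ht
          simp
        · rw [dif_neg ht, dif_neg]
          intro hc
          subst hc
          exact ht rfl
      rw [this, biproduct.lift_π]
    · have hrp : r.1.1 = p := by
        have : p ≤ r.1.1 := r.2
        omega
      have : jumpIncl s E (Int.le_add_one le_rfl : p ≤ p + 1) ≫ biproduct.π _ r = 0 := by
        refine biproduct.hom_ext' _ _ fun t => ?_
        rw [biproduct.ι_desc_assoc, biproduct.ι_π, dif_neg, comp_zero]
        intro hc
        have h₁ : t.1 = r.1 := congrArg Subtype.val hc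
        exact hr (h₁ ▸ t.2)
      rw [this, comp_zero]
      obtain ⟨⟨r, hrs⟩, hr'⟩ := r
      dsimp only at hrp ⊢
      subst hrp
      have h : a ≤ r := hs ⟨_, hrs⟩
      rw [hτ' _ (by omega), ← incl_comp X h (Int.le_add_one le_rfl) (by omega), Category.assoc,
        he ⟨_, hrs⟩]
      exact (reassoc_of% (sh_π X)) _ _ |>.trans zero_comp
  refine ⟨jump s E, homMk u₀ hu₀, injective_gr_jump s E (fun r => inferInstanceAs (Injective (Injective.under _))),
    fun p => ?_⟩
  by_cases hp : p ∈ s
  · let r : {r : s // p ≤ r.1} := ⟨⟨p, hp⟩, le_rfl⟩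
    let q : (grF A p).obj (jump s E) ⟶ E p :=
      cokernel.desc (sh (jump s E) p) (biproduct.π _ r) (by
        refine biproduct.hom_ext' _ _ fun t => ?_
        change biproduct.ι _ t ≫ jumpIncl s E (Int.le_add_one le_rfl) ≫ biproduct.π _ r = _
        rw [biproduct.ι_desc_assoc, biproduct.ι_π, dif_neg]
        · exact comp_zero.symm
        intro hc
        have h₁ : t.1 = ⟨p, hp⟩ := congrArg Subtype.val hc
        have h₂ : p + 1 ≤ t.1.1 := t.2
        rw [h₁] at h₂
        exact absurd h₂ (by simp))
    suffices h : (grF A p).map (homMk (G := jump s E) u₀ hu₀) ≫ q = Injective.ι _ from mono_of_mono_fac h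
    rw [← cancel_epi (π X p), ← Category.assoc, π_grMap, Category.assoc]
    refine (congrArg (u₀ p ≫ ·) (cokernel.π_desc _ _ _)).trans ?_
    refine (biproduct.lift_π _ _).trans ?_
    rw [hτ' p (hs ⟨p, hp⟩)]
    exact he ⟨p, hp⟩
  · refine ⟨fun {T} f g _ => IsZero.eq_of_tgt ?_ f g⟩
    refine (IsZero.iff_id_eq_zero _).2 ?_
    rw [← cancel_epi (π X p)]
    simp only [s, Finset.mem_Ico, not_and, not_lt] at hp
    rcases lt_or_ge p a with h | h
    · have : IsIso (sh X p) := ha p (p + 1) (Int.le_add_one le_rfl) (by omega)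
      rw [← cancel_epi (sh X p), reassoc_of% (sh_π X), zero_comp, comp_zero, comp_zero]
    · exact (hb p (hp h)).eq_of_src _ _

theorem mono_of_mono_gr {F G : FilF A} (φ : F ⟶ G) (h : ∀ p, Mono ((grF A p).map φ)) : Mono φ :=
  mono_of_app φ (mono_app_of_gr φ h)

end Groth.Agent.FilT
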