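import Groth.Agent.Lib.FilT.Injective
import Mathlib.Algebra.Homology.Homotopy
import Mathlib.Algebra.Homology.Embedding.CochainComplex

/-!
Maps from filtered acyclic complexes to bounded below complexes of filtered injective objects are
null-homotopic.
-/

set_option autoImplicit false

universe v u

open CategoryTheory CategoryTheory.Limits Opposite FilD

namespace Groth.Agent.FilT

variable {A : Type u} [Category.{v} A] [Abelian A]

theorem exists_homotopy_zero (K I : CochainComplex (FilF A) ℤ) (hK : IsFilteredAcyclic K) (a : ℤ)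
    [I.IsStrictlyGE a] (hI : ∀ n, IsFilteredInjective (I.X n)) (φ : K ⟶ I) :
    Nonempty (Homotopy φ 0) := by
  classical
  have step : ∀ (n : ℤ) (h : ∀ i j, K.X i ⟶ I.X j), ∃ g : K.X (n + 1) ⟶ I.X n,
      K.d (n - 1) n ≫ (φ.f n - h n (n - 1) ≫ I.d (n - 1) n) = 0 →
        K.d n (n + 1) ≫ g = φ.f n - h n (n - 1) ≫ I.d (n - 1) n := fun n h => by
    by_cases h0 : K.d (n - 1) n ≫ (φ.f n - h n (n - 1) ≫ I.d (n - 1) n) = 0
    · obtain ⟨g, hg⟩ := exists_desc (S := K.sc' (n - 1) n (n + 1))
        (fun p => (((grCx p).obj K).exactAt_iff' (n - 1) n (n + 1) (by simp) (by simp)).1 (hK p n))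
        (hI n) _ h0
      exact ⟨g, fun _ => hg⟩
    · exact ⟨0, fun h' => absurd h' h0⟩
  choose g hg using step
  let up : ℕ → (∀ i j, K.X i ⟶ I.X j) → ∀ i j, K.X i ⟶ I.X j := fun k h =>
    Function.update h (a + k + 1) (Function.update (h (a + k + 1)) (a + k) (g (a + k) h))
  let H : ℕ → ∀ i j, K.X i ⟶ I.X j := fun k => Nat.rec (fun _ _ => 0) up k
  have hH : ∀ (k : ℕ) (i j : ℤ), i ≠ a + k + 1 → H (k + 1) i j = H k i j := fun k i j hi =>
    congrFun (Function.update_of_ne hi _ _) j
  have hH' : ∀ k : ℕ, H (k + 1) (a + k + 1) (a + k) = g (a + k) (H k) := fun k => by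
    change up k (H k) _ _ = _
    simp only [up, Function.update_self]
  have inv : ∀ (k : ℕ) (n m : ℤ), n + 1 = m → n < a + k →
      φ.f n = K.d n m ≫ H k m n + H k n (n - 1) ≫ I.d (n - 1) n := by
    intro k
    induction k with
    | zero => exact fun n _ _ hn => (CochainComplex.isZero_of_isStrictlyGE I a n (by omega)).eq_of_tgt _ _
    | succ k ih =>
      intro n m hm hn
      subst hm
      rw [hH k n (n - 1) (by omega)]
      by_cases hn' : n = a + k
      · subst hn'
        rw [hH', hg _ _ ?_, sub_add_cancel]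
        have h₁ := ih (a + k - 1) (a + k) (by omega) (by omega)
        rw [Preadditive.comp_sub, ← φ.comm, h₁, Preadditive.add_comp, Category.assoc, Category.assoc,
          HomologicalComplex.d_comp_d, comp_zero, add_zero, sub_self]
      · rw [hH k (n + 1) n (by omega)]
        exact ih n (n + 1) rfl (by omega)
  have stable : ∀ (k : ℕ) (i j : ℤ), i ≤ a + k → ∀ l, k ≤ l → H l i j = H k i j := by
    intro k i j hi l hl
    induction l, hl using Nat.le_induction with
    | base => rfl
    | succ l hl ih => rw [hH l i j (by omega), ih]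
  let h : ∀ i j, K.X i ⟶ I.X j := fun i j => if j + 1 = i then H (i - a).toNat i j else 0
  refine ⟨{ hom := h, zero := fun i j hij => if_neg hij, comm := fun n => ?_ }⟩
  rw [dNext_eq _ (show (ComplexShape.up ℤ).Rel n (n + 1) from rfl),
    prevD_eq _ (show (ComplexShape.up ℤ).Rel (n - 1) n from by simp), HomologicalComplex.zero_f,
    add_zero, inv ((n + 1 - a).toNat) n (n + 1) rfl (by omega)]
  simp only [h, if_pos rfl, if_pos (show n - 1 + 1 = n by omega)]
  rw [stable (n - a).toNat n (n - 1) (by omega) (n + 1 - a).toNat (by omega)]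

end Groth.Agent.FilT
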