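import Groth.Agent.Lib.FilT.Bijective
import Mathlib.Algebra.Homology.HomotopyCategory.SingleFunctors
import Mathlib.Algebra.Homology.Single

/-!
Lifting of morphisms and of short exact sequences to filtered injective resolutions.
-/

set_option autoImplicit false

universe v u

open CategoryTheory CategoryTheory.Limits Opposite FilD

namespace Groth.Agent.FilT

variable {A : Type u} [Category.{v} A] [Abelian A]

set_option linter.unusedSectionVars false

theorem mono_gr_of_lev {S : ShortComplex (FilF A)} (hS : ∀ p, (S.map (ev p)).ShortExact) (p : ℤ) :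
    Mono ((grF A p).map S.f) := by
  refine Preadditive.mono_of_cancel_zero _ fun {T} z hz => ?_
  obtain ⟨T₁, e₁, he₁, x, hx⟩ := exists_lift_π S.X₁ p z
  obtain ⟨y, hy⟩ := exists_step (x ≫ app S.f p) (by
    rw [Category.assoc, ← π_grMap, ← reassoc_of% hx, hz, comp_zero])
  obtain ⟨T₂, e₂, he₂, x', hx'⟩ := exists_lev_lift (hS (p + 1)).exact y (by
    rw [← cancel_mono (sh S.X₃ p), zero_comp, Category.assoc, ← sh_app, ← Category.assoc, hy,
      Category.assoc, app_comp_app, comp_zero])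
  have : Mono (app S.f p) := (hS p).mono_f
  have h : e₂ ≫ x = x' ≫ sh S.X₁ p := by
    rw [← cancel_mono (app S.f p), Category.assoc, Category.assoc, sh_app, ← reassoc_of% hx', hy]
  rw [← cancel_epi e₁, ← cancel_epi e₂, hx, reassoc_of% h, sh_π, comp_zero, comp_zero, comp_zero]

theorem exact_gr_of_lev {S : ShortComplex (FilF A)} (hS : ∀ p, (S.map (ev p)).ShortExact) (p : ℤ) :
    (S.map (grF A p)).Exact := by
  rw [ShortComplex.exact_iff_exact_up_to_refinements]
  intro T (z : T ⟶ (grF A p).obj S.X₂) (hz : z ≫ (grF A p).map S.g = 0)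
  obtain ⟨T₁, e₁, he₁, y, hy⟩ := exists_lift_π S.X₂ p z
  obtain ⟨w, hw⟩ := exists_step (y ≫ app S.g p) (by
    rw [Category.assoc, ← π_grMap, ← reassoc_of% hy, hz, comp_zero])
  have : Epi (app S.g (p + 1)) := (hS (p + 1)).epi_g
  obtain ⟨T₂, e₂, he₂, y', hy'⟩ := surjective_up_to_refinements_of_epi (app S.g (p + 1)) w
  obtain ⟨T₃, e₃, he₃, x, hx⟩ := exists_lev_lift (hS p).exact (e₂ ≫ y - y' ≫ sh S.X₂ p) (by
    rw [Preadditive.sub_comp, Category.assoc, Category.assoc, sh_app, ← reassoc_of% hy', hw, sub_self])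
  refine ⟨T₃, e₃ ≫ e₂ ≫ e₁, inferInstance, x ≫ π S.X₁ p, ?_⟩
  change (e₃ ≫ e₂ ≫ e₁) ≫ z = (x ≫ π S.X₁ p) ≫ (grF A p).map S.f
  rw [Category.assoc, Category.assoc, Category.assoc, hy, π_grMap, ← reassoc_of% hx,
    Preadditive.sub_comp, Category.assoc, Category.assoc, sh_π, comp_zero, sub_zero]

/-- Maps from an object in degree zero are determined up to homotopy by their first component. -/
theorem eq_of_homotopy_single {X : FilF A} {J : CochainComplex (FilF A) ℤ} [J.IsStrictlyGE 0]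
    {u v : (HomologicalComplex.single (FilF A) (ComplexShape.up ℤ) 0).obj X ⟶ J} (h : Homotopy u v) : u = v := by
  have h0 : ∀ i j, h.hom i j = 0 := fun i j => by
    by_cases hi : i = 0
    · by_cases hj : j + 1 = i
      · exact (CochainComplex.isZero_of_isStrictlyGE J 0 j (by omega)).eq_of_tgt _ _
      · exact h.zero i j hj
    · exact (HomologicalComplex.isZero_single_obj_X _ 0 X i hi).eq_of_src _ _
  refine HomologicalComplex.from_single_hom_ext ?_
  rw [h.comm 0, dNext_eq h.hom (show (ComplexShape.up ℤ).Rel 0 1 from rfl),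
    prevD_eq h.hom (show (ComplexShape.up ℤ).Rel (-1) 0 from rfl), h0, h0, comp_zero, zero_comp,
    zero_add, zero_add]

theorem exists_lift {X Y : FilF A} (f : X ⟶ Y) (I : CochainComplex (FilF A) ℤ)
    (a : (HomologicalComplex.single (FilF A) (ComplexShape.up ℤ) 0).obj X ⟶ I) (ha : IsFilteredQuasiIso a)
    (J : CochainComplex (FilF A) ℤ) [J.IsStrictlyGE 0] (hJ : ∀ n, IsFilteredInjective (J.X n))
    (b : (HomologicalComplex.single (FilF A) (ComplexShape.up ℤ) 0).obj Y ⟶ J) :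
    ∃ φ : I ⟶ J, a ≫ φ = (HomologicalComplex.single (FilF A) (ComplexShape.up ℤ) 0).map f ≫ b := by
  obtain ⟨β, hβ⟩ := (bijective_precomp 0 hJ a ha).2 ((HomotopyCategory.quotient _ _).map
    ((HomologicalComplex.single (FilF A) (ComplexShape.up ℤ) 0).map f ≫ b))
  obtain ⟨φ, rfl⟩ := (HomotopyCategory.quotient _ _).map_surjective β
  exact ⟨φ, eq_of_homotopy_single (HomotopyCategory.homotopyOfEq _ _
    (((HomotopyCategory.quotient _ _).map_comp _ _).trans hβ))⟩

section Extension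

variable {I J : CochainComplex (FilF A) ℤ} (e : J ⟶ I⟦(1 : ℤ)⟧)

/-- The component of `e` as a map into the next degree. -/
abbrev eComp (n : ℤ) : J.X n ⟶ I.X (n + 1) := e.f n

theorem eComp_comm (n : ℤ) :
    eComp e n ≫ I.d (n + 1) (n + 1 + 1) + J.d n (n + 1) ≫ eComp e (n + 1) = 0 := by
  have h₀ : eComp e n ≫ (-I.d (n + 1) (n + 1 + 1)) = J.d n (n + 1) ≫ eComp e (n + 1) := by
    have h := e.comm n (n + 1)
    rw [CochainComplex.shiftFunctor_obj_d', Int.negOnePow_one, Units.neg_smul, one_smul] at h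
    exact h
  have h := (Preadditive.comp_neg _ _).symm.trans h₀
  exact (add_comm _ _).trans (eq_neg_iff_add_eq_zero.1 h.symm)

/-- The differential of the extension. -/
noncomputable abbrev extd (n : ℤ) : I.X n ⊞ J.X n ⟶ I.X (n + 1) ⊞ J.X (n + 1) :=
  biprod.desc (I.d n (n + 1) ≫ biprod.inl) (eComp e n ≫ biprod.inl + J.d n (n + 1) ≫ biprod.inr)

theorem extd_comp (n : ℤ) : extd e n ≫ extd e (n + 1) = 0 := by
  refine biprod.hom_ext' _ _ (by simp) ?_
  simp only [biprod.inr_desc_assoc, Preadditive.add_comp, Category.assoc, biprod.inl_desc,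
    biprod.inr_desc, Preadditive.comp_add, HomologicalComplex.d_comp_d_assoc, zero_comp, add_zero,
    comp_zero]
  rw [← Category.assoc, ← Category.assoc (J.d n (n + 1)), ← Preadditive.add_comp, eComp_comm, zero_comp]

/-- The termwise split extension defined by `e`. -/
noncomputable def extCx : CochainComplex (FilF A) ℤ :=
  CochainComplex.of (fun n => I.X n ⊞ J.X n) (extd e) (extd_comp e)

theorem extCx_d (n : ℤ) : (extCx e).d n (n + 1) = extd e n :=
  CochainComplex.of_d (fun n => I.X n ⊞ J.X n) (extd e) n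

theorem extd_snd (n : ℤ) : extd e n ≫ biprod.snd = biprod.snd ≫ J.d n (n + 1) :=
  biprod.hom_ext' _ _ (by simp) (by simp)

/-- The inclusion. -/
noncomputable def extInl : I ⟶ extCx e where
  f n := biprod.inl
  comm' i j (hij : i + 1 = j) := by
    subst hij
    exact (congrArg (biprod.inl ≫ ·) (extCx_d e i)).trans (biprod.inl_desc _ _)

/-- The projection. -/
noncomputable def extSnd : extCx e ⟶ J where
  f n := biprod.snd
  comm' i j (hij : i + 1 = j) := by
    subst hij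
    refine Eq.trans ?_ (congrArg (· ≫ (biprod.snd : I.X (i + 1) ⊞ J.X (i + 1) ⟶ _)) (extCx_d e i)).symm
    exact (extd_snd e i).symm

end Extension

theorem single_inv_mk {X : FilF A} {K : CochainComplex (FilF A) ℤ} (φ : X ⟶ K.X 0)
    (hφ : ∀ k, (ComplexShape.up ℤ).Rel 0 k → φ ≫ K.d 0 k = 0) :
    (HomologicalComplex.singleObjXSelf (ComplexShape.up ℤ) 0 X).inv ≫
      (HomologicalComplex.mkHomFromSingle φ hφ).f 0 = φ := by
  rw [HomologicalComplex.mkHomFromSingle_f, Iso.inv_hom_id_assoc]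

theorem exists_horseshoe (S : ShortComplex (FilF A)) (hS : ∀ p : ℤ, (S.map (ev p)).ShortExact)
    (I : CochainComplex (FilF A) ℤ) [I.IsStrictlyGE 0] (hI : ∀ n, IsFilteredInjective (I.X n))
    (a : (HomologicalComplex.single (FilF A) (ComplexShape.up ℤ) 0).obj S.X₁ ⟶ I)
    (J : CochainComplex (FilF A) ℤ)
    (c : (HomologicalComplex.single (FilF A) (ComplexShape.up ℤ) 0).obj S.X₃ ⟶ J) (hc : IsFilteredQuasiIso c) :
    ∃ (M : CochainComplex (FilF A) ℤ) (α : I ⟶ M) (β : M ⟶ J)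
      (b : (HomologicalComplex.single (FilF A) (ComplexShape.up ℤ) 0).obj S.X₂ ⟶ M),
      (∀ n, ∃ (r : M.X n ⟶ I.X n) (s : J.X n ⟶ M.X n), α.f n ≫ r = 𝟙 _ ∧ s ≫ β.f n = 𝟙 _ ∧
        α.f n ≫ β.f n = 0 ∧ r ≫ α.f n + β.f n ≫ s = 𝟙 _) ∧
      a ≫ α = (HomologicalComplex.single (FilF A) (ComplexShape.up ℤ) 0).map S.f ≫ b ∧
      b ≫ β = (HomologicalComplex.single (FilF A) (ComplexShape.up ℤ) 0).map S.g ≫ c := by
  let a₀ : S.X₁ ⟶ I.X 0 := (HomologicalComplex.singleObjXSelf _ 0 S.X₁).inv ≫ a.f 0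
  let c₀ : S.X₃ ⟶ J.X 0 := (HomologicalComplex.singleObjXSelf _ 0 S.X₃).inv ≫ c.f 0
  have ha₀ : a₀ ≫ I.d 0 1 = 0 := by
    simp only [a₀, Category.assoc, a.comm]
    simp
  have hc₀ : c₀ ≫ J.d 0 1 = 0 := by
    simp only [c₀, Category.assoc, c.comm]
    simp
  obtain ⟨b₁, hb₁⟩ := exists_extension_of_mono_gr S.f (mono_gr_of_lev hS) (hI 0) a₀
  obtain ⟨ω, hω⟩ := exists_desc (exact_gr_of_lev hS) (hI 1) (b₁ ≫ I.d 0 1) (by
    rw [reassoc_of% hb₁, ha₀])
  have hωd : ω ≫ I.d 1 2 = 0 := by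
    have : Epi S.g := ⟨fun {Z} u v huv => hom_ext fun p => by
      have : Epi (app S.g p) := (hS p).epi_g
      exact (cancel_epi (app S.g p)).1 (congrArg (fun t => app t p) huv)⟩
    rw [← cancel_epi S.g, reassoc_of% hω, HomologicalComplex.d_comp_d, comp_zero, comp_zero]
  let w : (HomologicalComplex.single (FilF A) (ComplexShape.up ℤ) 0).obj S.X₃ ⟶ I⟦(1 : ℤ)⟧ :=
    HomologicalComplex.mkHomFromSingle (show S.X₃ ⟶ (I⟦(1 : ℤ)⟧).X 0 from -ω) (fun k (hk : (0 : ℤ) + 1 = k) => by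
      subst hk
      rw [CochainComplex.shiftFunctor_obj_d', Int.negOnePow_one, Units.neg_smul, one_smul]
      change (-ω) ≫ (-I.d 1 2) = 0
      rw [Preadditive.neg_comp, Preadditive.comp_neg, hωd, neg_zero, neg_zero])
  have := I.isStrictlyGE_shift 0 1 (-1) (by omega)
  obtain ⟨β, hβ⟩ := (bijective_precomp (I := I⟦(1 : ℤ)⟧) (-1) (fun n => hI _) c hc).2
    ((HomotopyCategory.quotient _ _).map w)
  obtain ⟨e, rfl⟩ := (HomotopyCategory.quotient _ _).map_surjective β
  let H := HomotopyCategory.homotopyOfEq _ _ (((HomotopyCategory.quotient _ _).map_comp _ _).trans hβ)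
  let e₀ : J.X 0 ⟶ I.X 1 := e.f 0
  obtain ⟨h, he⟩ : ∃ h : S.X₃ ⟶ I.X 0, c₀ ≫ e₀ = -ω - h ≫ I.d 0 1 := by
    refine ⟨(HomologicalComplex.singleObjXSelf _ 0 S.X₃).inv ≫ H.hom 0 (-1), ?_⟩
    have h₁ := H.comm 0
    rw [dNext_eq H.hom (show (ComplexShape.up ℤ).Rel 0 1 from rfl),
      prevD_eq H.hom (show (ComplexShape.up ℤ).Rel (-1) 0 from rfl),
      show ((HomologicalComplex.single (FilF A) (ComplexShape.up ℤ) 0).obj S.X₃).d 0 1 = 0 from rfl,
      zero_comp, zero_add, HomologicalComplex.comp_f,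
      CochainComplex.shiftFunctor_obj_d', Int.negOnePow_one, Units.neg_smul, one_smul] at h₁
    have h₂ := congrArg ((HomologicalComplex.singleObjXSelf _ 0 S.X₃).inv ≫ ·) h₁
    simp only [Preadditive.comp_add, w] at h₂
    rw [sub_eq_add_neg, add_comm (-ω), ← Preadditive.comp_neg]
    exact ((Category.assoc _ _ _).trans h₂).trans
      (congrArg₂ (· + ·) (Category.assoc _ _ _).symm (single_inv_mk _ _))
  let b₀ : S.X₂ ⟶ I.X 0 ⊞ J.X 0 := (b₁ + S.g ≫ h) ≫ biprod.inl + (S.g ≫ c₀) ≫ biprod.inr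
  let b : (HomologicalComplex.single (FilF A) (ComplexShape.up ℤ) 0).obj S.X₂ ⟶ extCx e :=
    HomologicalComplex.mkHomFromSingle (show S.X₂ ⟶ (extCx e).X 0 from b₀) (fun k (hk : (0 : ℤ) + 1 = k) => by
      subst hk
      refine (congrArg (b₀ ≫ ·) (extCx_d e 0)).trans ?_
      have hz : (b₁ + S.g ≫ h) ≫ I.d 0 1 + (S.g ≫ c₀) ≫ e₀ = 0 := by
        rw [Preadditive.add_comp, ← hω, Category.assoc, Category.assoc, he, Preadditive.comp_sub,
          Preadditive.comp_neg]
        abel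
      have key : b₀ ≫ biprod.desc (I.d 0 1 ≫ (biprod.inl : I.X 1 ⟶ I.X 1 ⊞ J.X 1))
          (e₀ ≫ biprod.inl + J.d 0 1 ≫ biprod.inr) = 0 := by
        simp only [b₀, Preadditive.add_comp, Category.assoc, biprod.inl_desc, biprod.inr_desc,
          Preadditive.comp_add, hc₀, reassoc_of% hc₀, zero_comp, comp_zero, add_zero]
        have := congrArg (· ≫ (biprod.inl : I.X 1 ⟶ I.X 1 ⊞ J.X 1)) hz
        simp only [Preadditive.add_comp, Category.assoc, zero_comp] at this
        exact this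
      exact key)
  refine ⟨extCx e, extInl e, extSnd e, b, fun n => ⟨biprod.fst, biprod.inr, biprod.inl_fst,
    biprod.inr_snd, biprod.inl_snd, biprod.total⟩, ?_, ?_⟩
  · refine HomologicalComplex.from_single_hom_ext ?_
    rw [HomologicalComplex.comp_f, HomologicalComplex.comp_f]
    refine Eq.trans ?_ (congrArg (· ≫ _) (HomologicalComplex.single_map_f_self _ 0 S.f)).symm
    simp only [b, Category.assoc]
    rw [← cancel_epi (HomologicalComplex.singleObjXSelf _ 0 S.X₁).inv, Iso.inv_hom_id_assoc]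
    refine Eq.trans ?_ (congrArg (S.f ≫ ·) (single_inv_mk _ _)).symm
    change (HomologicalComplex.singleObjXSelf _ 0 S.X₁).inv ≫ a.f 0 ≫
      (biprod.inl : I.X 0 ⟶ I.X 0 ⊞ J.X 0) = S.f ≫ b₀
    simp only [b₀, Preadditive.comp_add, Category.assoc, reassoc_of% hb₁, a₀, Preadditive.add_comp,
      reassoc_of% S.zero, zero_comp, add_zero]
  · refine HomologicalComplex.from_single_hom_ext ?_
    rw [HomologicalComplex.comp_f, HomologicalComplex.comp_f]
    refine Eq.trans ?_ (congrArg (· ≫ _) (HomologicalComplex.single_map_f_self _ 0 S.g)).symm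
    simp only [b, Category.assoc]
    rw [← cancel_epi (HomologicalComplex.singleObjXSelf _ 0 S.X₂).inv, Iso.inv_hom_id_assoc]
    refine ((Category.assoc _ _ _).symm.trans (congrArg (· ≫ (extSnd e).f 0) (single_inv_mk _ _))).trans ?_
    change b₀ ≫ (biprod.snd : I.X 0 ⊞ J.X 0 ⟶ J.X 0) = S.g ≫ c₀
    simp [b₀]

end Groth.Agent.FilT
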