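import Groth.Agent.Lib.FilT.Category
import Mathlib.Algebra.Homology.ShortComplex.ShortExact
import Mathlib.CategoryTheory.Preadditive.Injective.Basic

/-!
Filtered injective objects are injective relative to the graded exact sequences.
-/

set_option autoImplicit false

universe v u

open CategoryTheory CategoryTheory.Limits Opposite FilD

namespace Groth.Agent.FilT

variable {A : Type u} [Category.{v} A] [Abelian A]

theorem injective_lev {I : FilF A} (hI : IsFilteredInjective I) (p : ℤ) : Injective (lev I p) := by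
  obtain ⟨b, hb⟩ := exists_zero_above I
  suffices ∀ (k : ℕ) (p : ℤ), b ≤ p + k → Injective (lev I p) from this (b - p).toNat p (by omega)
  intro k
  induction k with
  | zero => exact fun p hp => (hb p (by omega)).injective
  | succ k ih =>
    intro p hp
    have := ih (p + 1) (by omega)
    have : Injective ((grF A p).obj I) := hI p
    let S := ShortComplex.mk (sh I p) (π I p) (sh_π I p)
    have hS : S.ShortExact :=
      { exact := S.exact_of_g_is_cokernel (cokernelIsCokernel (sh I p)) }
    have : Injective S.X₁ := inferInstanceAs (Injective (lev I (p + 1)))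
    exact Injective.of_iso (hS.splittingOfInjective.isoBinaryBiproduct).symm
      (inferInstanceAs (Injective (lev I (p + 1) ⊞ (grF A p).obj I)))

theorem exists_extension {P Q J : A} [Injective J] (d : P ⟶ Q) (h : P ⟶ J)
    (H : ∀ (T : A) (k : T ⟶ P), k ≫ d = 0 → k ≫ h = 0) : ∃ g : Q ⟶ J, d ≫ g = h := by
  have e : kernel.ι (factorThruImage d) ≫ h = 0 :=
    H _ _ ((congrArg (kernel.ι (factorThruImage d) ≫ ·) (image.fac d)).symm.trans
      ((Category.assoc _ _ _).symm.trans
        ((congrArg (· ≫ image.ι d) (kernel.condition (factorThruImage d))).trans zero_comp)))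
  refine ⟨Injective.factorThru (Abelian.epiDesc (factorThruImage d) h e) (image.ι d), ?_⟩
  refine (congrArg (· ≫ Injective.factorThru _ _) (image.fac d)).symm.trans ?_
  rw [Category.assoc, Injective.comp_factorThru, Abelian.comp_epiDesc]

/-- One step of the extension. -/
theorem exists_desc_step {S : ShortComplex (FilF A)} {p : ℤ} (hS : (S.map (grF A p)).Exact)
    {I : FilF A} [Injective (lev I p)] (f : S.X₂ ⟶ I) (hf : S.f ≫ f = 0)
    (g' : lev S.X₃ (p + 1) ⟶ lev I (p + 1)) (hg' : app S.g (p + 1) ≫ g' = app f (p + 1)) :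
    ∃ g : lev S.X₃ p ⟶ lev I p, app S.g p ≫ g = app f p ∧ sh S.X₃ p ≫ g = g' ≫ sh I p := by
  obtain ⟨g, hg⟩ := exists_extension (biprod.desc (app S.g p) (sh S.X₃ p))
    (biprod.desc (app f p) (g' ≫ sh I p)) fun T k hk => by
    have hk' : k ≫ biprod.fst ≫ app S.g p + k ≫ biprod.snd ≫ sh S.X₃ p = 0 := by
      rw [← Preadditive.comp_add, ← biprod.desc_eq, hk]
    obtain ⟨T₁, e, he, z, y', h₁⟩ := exists_correction hS (k ≫ biprod.fst) (by
      rw [Category.assoc]
      have : (k ≫ biprod.fst ≫ app S.g p + k ≫ biprod.snd ≫ sh S.X₃ p) ≫ π S.X₃ p = 0 := by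
        rw [hk', zero_comp]
      rw [Preadditive.add_comp, Category.assoc, Category.assoc, Category.assoc, Category.assoc,
        sh_π, comp_zero, comp_zero, add_zero] at this
      exact this)
    have hx : e ≫ k ≫ biprod.snd = -(y' ≫ app S.g (p + 1)) := by
      rw [← cancel_mono (sh S.X₃ p), Preadditive.neg_comp, Category.assoc, Category.assoc, Category.assoc,
        ← sh_app]
      have h₂ : e ≫ k ≫ biprod.fst ≫ app S.g p = y' ≫ sh S.X₂ p ≫ app S.g p := by
        have := congrArg (· ≫ app S.g p) h₁
        simpa [app_comp_app] using this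
      have := congrArg (e ≫ ·) hk'
      simp only [Preadditive.comp_add, comp_zero, h₂] at this
      exact eq_neg_of_add_eq_zero_right this
    have hz : app S.f p ≫ app f p = 0 := congrArg (fun t => app t p) hf
    have hw : e ≫ k ≫ biprod.fst ≫ app f p = y' ≫ app f (p + 1) ≫ sh I p := by
      have := congrArg (· ≫ app f p) h₁
      simp only [Category.assoc, Preadditive.add_comp, hz, comp_zero, zero_add, sh_app] at this
      exact this
    rw [← cancel_epi e, comp_zero, biprod.desc_eq, Preadditive.comp_add, Preadditive.comp_add, hw,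
      reassoc_of% hx, Preadditive.neg_comp, Category.assoc, reassoc_of% hg']
    exact add_neg_cancel _
  exact ⟨g, by simpa using congrArg (biprod.inl ≫ ·) hg, by simpa using congrArg (biprod.inr ≫ ·) hg⟩

/-- A map into a filtered injective object killing the image of the first morphism of a graded exact
sequence factors through the second one. -/
theorem exists_desc {S : ShortComplex (FilF A)} (hS : ∀ p, (S.map (grF A p)).Exact) {I : FilF A}
    (hI : IsFilteredInjective I) (f : S.X₂ ⟶ I) (hf : S.f ≫ f = 0) : ∃ g : S.X₃ ⟶ I, S.g ≫ g = f := by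
  classical
  have := injective_lev hI
  obtain ⟨b₁, hb₁⟩ := exists_zero_above S.X₃
  obtain ⟨b₂, hb₂⟩ := exists_zero_above I
  let b := max b₁ b₂
  have key : ∀ k : ℕ, ∃ g : ∀ p, lev S.X₃ p ⟶ lev I p, ∀ p, b - k ≤ p →
      app S.g p ≫ g p = app f p ∧ sh S.X₃ p ≫ g p = g (p + 1) ≫ sh I p := by
    intro k
    induction k with
    | zero => exact ⟨fun _ => 0, fun p hp => ⟨(hb₂ p (by omega)).eq_of_tgt _ _, (hb₂ p (by omega)).eq_of_tgt _ _⟩⟩
    | succ k ih =>
      obtain ⟨g, hg⟩ := ih
      obtain ⟨g₀, h₁, h₂⟩ := exists_desc_step (hS (b - (k + 1 : ℕ))) f hf (g (b - (k + 1 : ℕ) + 1))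
        (hg _ (by omega)).1
      refine ⟨Function.update g (b - (k + 1 : ℕ)) g₀, fun p hp => ?_⟩
      rw [Function.update_of_ne (show p + 1 ≠ b - (k + 1 : ℕ) by omega)]
      by_cases hp' : p = b - (k + 1 : ℕ)
      · subst hp'
        rw [Function.update_self]
        exact ⟨h₁, h₂⟩
      · rw [Function.update_of_ne hp']
        exact hg p (by omega)
  obtain ⟨a₁, ha₁⟩ := exists_isIso_below S.X₃
  obtain ⟨a₂, ha₂⟩ := exists_isIso_below S.X₂
  let a := min a₁ a₂
  obtain ⟨g, hg⟩ := key (b - a).toNat
  let G : ∀ p, lev S.X₃ p ⟶ lev I p := fun p => if h : p < a then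
    have := ha₁ p a h.le (min_le_left _ _)
    inv (incl S.X₃ h.le) ≫ g a ≫ incl I h.le else g p
  have hG₁ : ∀ p, a ≤ p → G p = g p := fun p hp => dif_neg (not_lt.2 hp)
  have hG₂ : ∀ p (hp : p ≤ a), incl S.X₃ hp ≫ G p = g a ≫ incl I hp := fun p hp => by
    rcases hp.lt_or_eq with h | h
    · have := ha₁ p a h.le (min_le_left _ _)
      simp only [G, dif_pos h, IsIso.hom_inv_id_assoc]
    · subst h
      rw [hG₁ a le_rfl, incl_refl, incl_refl, Category.id_comp, Category.comp_id]
  refine ⟨homMk G fun p => ?_, hom_ext fun p => ?_⟩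
  · rcases lt_or_ge p a with h | h
    · have := ha₁ (p + 1) a (by omega) (min_le_left _ _)
      rw [← cancel_epi (incl S.X₃ (show p + 1 ≤ a by omega)), sh_eq_incl, incl_comp_assoc _ _ _ h.le,
        hG₂ p h.le, reassoc_of% (hG₂ (p + 1) (by omega)), sh_eq_incl, incl_comp]
    · rw [hG₁ p h, hG₁ (p + 1) (by omega)]
      exact (hg p (by omega)).2
  · change app S.g p ≫ G p = app f p
    rcases lt_or_ge p a with h | h
    · have := ha₂ p a h.le (min_le_right _ _)
      rw [← cancel_epi (incl S.X₂ h.le), incl_app_assoc, hG₂ p h.le, reassoc_of% (hg a (by omega)).1,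
        incl_app]
    · rw [hG₁ p h]
      exact (hg p (by omega)).1

/-- Extension along a strict monomorphism. -/
theorem exists_extension_of_mono_gr {X Y I : FilF A} (u : X ⟶ Y) (hu : ∀ p, Mono ((grF A p).map u))
    (hI : IsFilteredInjective I) (f : X ⟶ I) : ∃ g : Y ⟶ I, u ≫ g = f := by
  have hS : ∀ p, ((ShortComplex.mk (0 : X ⟶ X) u zero_comp).map (grF A p)).Exact := fun p =>
    (ShortComplex.exact_iff_mono _ ((grF A p).map_zero _ _)).2 (hu p)
  exact exists_desc hS hI f zero_comp

end Groth.Agent.FilT
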