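import Groth.Agent.Lib.FilT.Category
import Mathlib.Algebra.Homology.Embedding.CochainComplex
import Mathlib.Algebra.Homology.HomologicalComplexAbelian
import Mathlib.Algebra.Homology.HomologySequenceLemmas
import Mathlib.Algebra.Homology.QuasiIso
import Mathlib.CategoryTheory.Limits.FunctorCategory.Finite

/-!
Truncation of complexes of finite filtered objects.
-/

set_option autoImplicit false

universe v u

open CategoryTheory CategoryTheory.Limits Opposite FilD

namespace Groth.Agent.FilT

variable {A : Type u} [Category.{v} A] [Abelian A]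

set_option linter.unusedSectionVars false

theorem isFinFil_of_iso {F G : ℤᵒᵖ ⥤ A} (e : F ≅ G) (hF : IsFinFil A F) : IsFinFil A G := by
  refine ⟨fun p q f => ?_, ?_, ?_⟩
  · have := hF.1 f
    exact (NatIso.naturality_1 e f) ▸ (inferInstance : Mono ((e.app p).inv ≫ F.map f ≫ (e.app q).hom))
  · obtain ⟨b, hb⟩ := hF.2.1
    exact ⟨b, fun p hp => (hb p hp).of_iso (e.app _).symm⟩
  · obtain ⟨a, ha⟩ := hF.2.2
    refine ⟨a, fun p q f hp => ?_⟩
    have := ha f hp
    exact (NatIso.naturality_1 e f) ▸ (inferInstance : IsIso ((e.app p).inv ≫ F.map f ≫ (e.app q).hom))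

theorem mono_map_of_step {H : ℤᵒᵖ ⥤ A} (h : ∀ p, Mono (H.map (stepHom p))) ⦃p q : ℤᵒᵖ⦄ (f : p ⟶ q) :
    Mono (H.map f) := by
  have key : ∀ (k : ℕ) (i j : ℤ) (hij : i ≤ j), j = i + k → Mono (H.map (homOfLE hij).op) := by
    intro k
    induction k with
    | zero =>
      intro i j hij hj
      obtain rfl : j = i := by omega
      rw [show (homOfLE hij).op = 𝟙 (op j) from Subsingleton.elim _ _, H.map_id]
      infer_instance
    | succ k ih =>
      intro i j hij hj
      have := ih (i + 1) j (by omega) (by omega)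
      have := h i
      rw [show (homOfLE hij).op = (homOfLE (show i + 1 ≤ j by omega)).op ≫ stepHom i from
        Subsingleton.elim _ _, H.map_comp]
      exact mono_comp _ _
  have h' : q.unop ≤ p.unop := leOfHom f.unop
  exact key (p.unop - q.unop).toNat _ _ h' (by omega)

/-- The cokernel of a strict morphism is finite filtered. -/
theorem isFinFil_cokernel {F G : FilF A} (φ : F ⟶ G) (hφ : IsStrict φ) :
    IsFinFil A (cokernel φ.hom) := by
  refine ⟨mono_map_of_step fun p => ?_, ?_, ?_⟩
  · let S := ShortComplex.mk (app φ p) ((cokernel.π φ.hom).app (op p))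
      (congrArg (fun t => t.app (op p)) (cokernel.condition φ.hom))
    have hS : S.Exact := S.exact_of_g_is_cokernel
      (CokernelCofork.mapIsColimit _ (cokernelIsCokernel φ.hom) ((evaluation ℤᵒᵖ A).obj (op p)))
    refine Preadditive.mono_of_cancel_zero _ fun {T} z hz => ?_
    obtain ⟨T₁, e₁, he₁, x, hx⟩ := surjective_up_to_refinements_of_epi
      ((cokernel.π φ.hom).app (op (p + 1))) z
    obtain ⟨T₂, e₂, he₂, w, hw⟩ := hS.exact_up_to_refinements (x ≫ sh G p) (by
      change (x ≫ sh G p) ≫ (cokernel.π φ.hom).app (op p) = 0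
      refine (Category.assoc _ _ _).trans ?_
      refine (congrArg (x ≫ ·) ((cokernel.π φ.hom).naturality (stepHom p))).trans ?_
      rw [← Category.assoc, ← hx, Category.assoc, hz, comp_zero])
    change e₂ ≫ x ≫ sh G p = w ≫ app φ p at hw
    obtain ⟨T₃, e₃, he₃, w', hw'⟩ := exists_of_isStrict hφ p w (e₂ ≫ x)
      (hw.symm.trans (Category.assoc _ _ _).symm)
    rw [← cancel_epi e₁, ← cancel_epi e₂, ← cancel_epi e₃, hx, ← Category.assoc e₂,
      ← Category.assoc e₃, ← hw', Category.assoc, comp_zero, comp_zero, comp_zero]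
    exact (congrArg (w' ≫ ·) (congrArg (fun t => t.app (op (p + 1))) (cokernel.condition φ.hom))).trans comp_zero
  · obtain ⟨b, hb⟩ := exists_zero_above G
    exact ⟨b, fun p hp => (hb p hp).of_epi ((cokernel.π φ.hom).app (op p))⟩
  · obtain ⟨a₁, ha₁⟩ := F.property.2.2
    obtain ⟨a₂, ha₂⟩ := G.property.2.2
    refine ⟨min a₁ a₂, fun p q f hp => ?_⟩
    have := ha₁ f (show p.unop ≤ a₁ by omega)
    have := ha₂ f (show p.unop ≤ a₂ by omega)
    let c := fun r => CokernelCofork.mapIsColimit _ (cokernelIsCokernel φ.hom) ((evaluation ℤᵒᵖ A).obj r)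
    obtain ⟨g, hg⟩ : ∃ g, (cokernel.π φ.hom).app q ≫ g = inv (G.obj.map f) ≫ (cokernel.π φ.hom).app p :=
      ⟨_, (CokernelCofork.IsColimit.desc' (c q) (inv (G.obj.map f) ≫ (cokernel.π φ.hom).app p) (by
        change φ.hom.app q ≫ inv (G.obj.map f) ≫ (cokernel.π φ.hom).app p = 0
        rw [← cancel_epi (F.obj.map f), comp_zero, φ.hom.naturality_assoc, IsIso.hom_inv_id_assoc]
        exact congrArg (fun t => t.app p) (cokernel.condition φ.hom))).2⟩
    have : Epi ((cokernel.π φ.hom).app p) := inferInstance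
    refine ⟨g, ?_, ?_⟩
    · rw [← cancel_epi ((cokernel.π φ.hom).app p), ← (cokernel.π φ.hom).naturality_assoc, hg,
        IsIso.hom_inv_id_assoc, Category.comp_id]
    · rw [← cancel_epi ((cokernel.π φ.hom).app q), reassoc_of% hg, ← (cokernel.π φ.hom).naturality,
        IsIso.inv_hom_id_assoc, Category.comp_id]

theorem exact_of_evaluation {S : ShortComplex (ℤᵒᵖ ⥤ A)}
    (h : ∀ p, (S.map ((evaluation ℤᵒᵖ A).obj p)).Exact) : S.Exact := by
  rw [S.exact_iff_isZero_homology, Functor.isZero_iff]
  exact fun p => ((S.map ((evaluation ℤᵒᵖ A).obj p)).exact_iff_isZero_homology.1 (h p)).of_iso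
    (S.mapHomologyIso ((evaluation ℤᵒᵖ A).obj p)).symm

/-- The underlying complex of functors. -/
noncomputable abbrev forget : CochainComplex (FilF A) ℤ ⥤ CochainComplex (ℤᵒᵖ ⥤ A) ℤ :=
  (IsFinFil A).ι.mapHomologicalComplex _

/-- A complex of functors with finite filtered terms is a complex of finite filtered objects. -/
def liftCx (L : CochainComplex (ℤᵒᵖ ⥤ A) ℤ) (h : ∀ n, IsFinFil A (L.X n)) :
    CochainComplex (FilF A) ℤ where
  X n := ⟨L.X n, h n⟩
  d i j := ⟨L.d i j⟩
  shape i j hij := ObjectProperty.hom_ext _ (L.shape i j hij)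
  d_comp_d' i j k _ _ := ObjectProperty.hom_ext _ (L.d_comp_d i j k)

/-- The inclusion of a step of a complex. -/
def shNat (p : ℤ) : ev (A := A) (p + 1) ⟶ ev p where
  app F := sh F p
  naturality _ _ φ := (sh_app φ p).symm

/-- The projection to a graded piece of a complex. -/
noncomputable def πNat (p : ℤ) : ev (A := A) p ⟶ grF A p where
  app F := π F p
  naturality _ _ φ := (π_grMap φ p).symm

/-- The short complex of complexes relating two steps and a graded piece. -/
noncomputable def stepSES (K : CochainComplex (FilF A) ℤ) (p : ℤ) :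
    ShortComplex (CochainComplex A ℤ) :=
  ShortComplex.mk ((NatTrans.mapHomologicalComplex (shNat p) _).app K)
    ((NatTrans.mapHomologicalComplex (πNat p) _).app K)
    (by ext n; exact sh_π (K.X n) p)

theorem shortExact_stepSES (K : CochainComplex (FilF A) ℤ) (p : ℤ) : (stepSES K p).ShortExact := by
  refine HomologicalComplex.shortExact_of_degreewise_shortExact _ fun n => ?_
  exact
    { exact := ShortComplex.exact_of_g_is_cokernel _ (cokernelIsCokernel (sh (K.X n) p))
      mono_f := inferInstanceAs (Mono (sh (K.X n) p))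
      epi_g := inferInstanceAs (Epi (π (K.X n) p)) }

/-- A morphism inducing quasi-isomorphisms on all steps is a filtered quasi-isomorphism. -/
theorem isFilteredQuasiIso_of_forget {K L : CochainComplex (FilF A) ℤ} (φ : K ⟶ L)
    (h : _root_.QuasiIso (forget.map φ)) : IsFilteredQuasiIso φ := by
  intro p
  let Φ : stepSES K p ⟶ stepSES L p :=
    { τ₁ := ((ev (p + 1)).mapHomologicalComplex _).map φ
      τ₂ := ((ev p).mapHomologicalComplex _).map φ
      τ₃ := (grCx p).map φ
      comm₁₂ := (NatTrans.mapHomologicalComplex (shNat p) _).naturality φ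
      comm₂₃ := (NatTrans.mapHomologicalComplex (πNat p) _).naturality φ }
  have hq : ∀ q, _root_.QuasiIso (((ev (A := A) q).mapHomologicalComplex (ComplexShape.up ℤ)).map φ) :=
    fun q => inferInstanceAs
      (_root_.QuasiIso ((((evaluation ℤᵒᵖ A).obj (op q)).mapHomologicalComplex _).map (forget.map φ)))
  exact HomologicalComplex.HomologySequence.quasiIso_τ₃ Φ (shortExact_stepSES K p)
    (shortExact_stepSES L p) (hq _) (hq _)

theorem exact_sc'_of_gr {K : CochainComplex (FilF A) ℤ} {n : ℤ}
    (hK : ∀ p, IsZero (((grCx p).obj K).homology n)) (p : ℤ) :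
    ((K.sc' (n - 1) n (n + 1)).map (grF A p)).Exact :=
  (((grCx p).obj K).exactAt_iff' (n - 1) n (n + 1) (by simp) (by simp)).1
    (((grCx p).obj K).exactAt_iff_isZero_homology n |>.2 (hK p))

theorem exactAt_forget {K : CochainComplex (FilF A) ℤ} {n : ℤ}
    (hK : ∀ p, IsZero (((grCx p).obj K).homology n)) : (forget.obj K).ExactAt n :=
  ((forget.obj K).exactAt_iff' (n - 1) n (n + 1) (by simp) (by simp)).2
    (exact_of_evaluation fun p => exact_lev (exact_sc'_of_gr hK) p.unop)

theorem exists_truncGE (K : CochainComplex (FilF A) ℤ) (a : ℤ)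
    (hK : ∀ (p n : ℤ), n < a → IsZero (((grCx p).obj K).homology n)) :
    ∃ (L : CochainComplex (FilF A) ℤ) (φ : K ⟶ L), L.IsStrictlyGE a ∧ IsFilteredQuasiIso φ := by
  have : (forget.obj K).IsGE a := ((forget.obj K).isGE_iff a).2 fun i hi => exactAt_forget fun p => hK p i hi
  have h : ∀ n, IsFinFil A (((forget.obj K).truncGE a).X n) := by
    intro n
    rcases lt_trichotomy n a with hn | rfl | hn
    · have hz := CochainComplex.isZero_of_isStrictlyGE ((forget.obj K).truncGE a) a n hn
      obtain ⟨Z, hZ, hZ'⟩ := (inferInstance : (IsFinFil A).ContainsZero).exists_zero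
      exact isFinFil_of_iso (hZ.iso hz) hZ'
    · have hs : IsStrict (K.d (n - 1) n) := by
        have h' : IsStrict (K.d (n - 1) (n - 1 + 1)) :=
          isStrict_g (exact_sc'_of_gr (n := n - 1) fun p => hK p _ (by omega))
        rwa [sub_add_cancel] at h'
      exact isFinFil_of_iso (IsColimit.coconePointUniqueUpToIso (colimit.isColimit _)
        ((forget.obj K).opcyclesIsCokernel (n - 1) n (by simp)) ≪≫
          ((forget.obj K).truncGEXIsoOpcycles n).symm) (isFinFil_cokernel (K.d (n - 1) n) hs)
    · exact isFinFil_of_iso ((forget.obj K).truncGEXIso a n hn).symm (K.X n).property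
  refine ⟨liftCx _ h, { f := fun n => ⟨((forget.obj K).πTruncGE a).f n⟩, comm' := fun i j _ =>
    ObjectProperty.hom_ext _ (((forget.obj K).πTruncGE a).comm i j) }, ?_, ?_⟩
  · rw [CochainComplex.isStrictlyGE_iff]
    intro i hi
    exact IsZero.of_full_of_faithful_of_isZero (IsFinFil A).ι _
      (CochainComplex.isZero_of_isStrictlyGE ((forget.obj K).truncGE a) a i hi)
  · exact isFilteredQuasiIso_of_forget _ (((forget.obj K).quasiIso_πTruncGE_iff a).2 this)

theorem exists_truncLE (K : CochainComplex (FilF A) ℤ) (b : ℤ)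
    (hK : ∀ (p n : ℤ), b < n → IsZero (((grCx p).obj K).homology n)) :
    ∃ (M : CochainComplex (FilF A) ℤ) (φ : M ⟶ K), M.IsStrictlyLE b ∧ IsFilteredQuasiIso φ := by
  have : (forget.obj K).IsLE b := ((forget.obj K).isLE_iff b).2 fun i hi => exactAt_forget fun p => hK p i hi
  have h : ∀ n, IsFinFil A (((forget.obj K).truncLE b).X n) := by
    intro n
    rcases lt_trichotomy b n with hn | rfl | hn
    · have hz := CochainComplex.isZero_of_isStrictlyLE ((forget.obj K).truncLE b) b n hn
      obtain ⟨Z, hZ, hZ'⟩ := (inferInstance : (IsFinFil A).ContainsZero).exists_zero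
      exact isFinFil_of_iso (hZ.iso hz) hZ'
    · exact isFinFil_of_iso (IsLimit.conePointUniqueUpToIso (kernelIsKernel _)
        ((forget.obj K).cyclesIsKernel b (b + 1) (by simp)) ≪≫
          ((forget.obj K).truncLEXIsoCycles b).symm) (isFinFil_kernel (K.d b (b + 1)))
    · exact isFinFil_of_iso ((forget.obj K).truncLEXIso b n hn).symm (K.X n).property
  refine ⟨liftCx _ h, { f := fun n => ⟨((forget.obj K).ιTruncLE b).f n⟩, comm' := fun i j _ =>
    ObjectProperty.hom_ext _ (((forget.obj K).ιTruncLE b).comm i j) }, ?_, ?_⟩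
  · rw [CochainComplex.isStrictlyLE_iff]
    intro i hi
    exact IsZero.of_full_of_faithful_of_isZero (IsFinFil A).ι _
      (CochainComplex.isZero_of_isStrictlyLE ((forget.obj K).truncLE b) b i hi)
  · exact isFilteredQuasiIso_of_forget _ (((forget.obj K).quasiIso_ιTruncLE_iff b).2 this)

end Groth.Agent.FilT
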