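import Groth.Agent.Lib.FilT.Envelope
import Groth.Agent.Lib.FilT.Trunc

/-!
The inductive step in the construction of filtered injective resolutions.
-/

set_option autoImplicit false

universe v u

open CategoryTheory CategoryTheory.Limits Opposite FilD

namespace Groth.Agent.FilT

variable {A : Type u} [Category.{v} A] [Abelian A]

/-- The differential of the cone attached to a morphism `f` and a differential `δ`. -/
noncomputable abbrev coneD {X₁ X₂ P I : FilF A} (d₁ : X₁ ⟶ X₂) (f : X₁ ⟶ I) (δ : P ⟶ I) :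
    X₁ ⊞ P ⟶ X₂ ⊞ I :=
  biprod.lift (-(biprod.fst ≫ d₁)) (biprod.desc f δ)

/-- Exactness of graded pieces at a cokernel. -/
theorem exists_gr_lift_of_cokernel {F G : FilF A} (φ : F ⟶ G) (hφ : IsStrict φ) (p : ℤ) {T : A}
    (z : T ⟶ (grF A p).obj G)
    (hz : z ≫ (grF A p).map (ObjectProperty.homMk (cokernel.π φ.hom) :
      G ⟶ ⟨cokernel φ.hom, isFinFil_cokernel φ hφ⟩) = 0) :
    ∃ (T' : A) (e : T' ⟶ T) (_ : Epi e) (w : T' ⟶ (grF A p).obj F), e ≫ z = w ≫ (grF A p).map φ := by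
  let Q : FilF A := ⟨cokernel φ.hom, isFinFil_cokernel φ hφ⟩
  let q : G ⟶ Q := ObjectProperty.homMk (cokernel.π φ.hom)
  change z ≫ (grF A p).map q = 0 at hz
  have hq : ∀ r, (ShortComplex.mk (app φ r) (app q r)
      (congrArg (fun t => t.app (op r)) (cokernel.condition φ.hom))).Exact := fun r =>
    ShortComplex.exact_of_g_is_cokernel _
      (CokernelCofork.mapIsColimit _ (cokernelIsCokernel φ.hom) ((evaluation ℤᵒᵖ A).obj (op r)))
  obtain ⟨T₁, e₁, he₁, x, hx⟩ := exists_lift_π G p z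
  obtain ⟨y, hy⟩ := exists_step (x ≫ app q p) (by
    rw [Category.assoc, ← π_grMap, ← reassoc_of% hx, hz, comp_zero])
  obtain ⟨T₂, e₂, he₂, x', hx'⟩ : ∃ (T₂ : A) (e₂ : T₂ ⟶ T₁) (_ : Epi e₂) (x' : T₂ ⟶ lev G (p + 1)),
      e₂ ≫ y = x' ≫ app q (p + 1) := by
    have : Epi (app q (p + 1)) := inferInstanceAs (Epi ((cokernel.π φ.hom).app (op (p + 1))))
    exact surjective_up_to_refinements_of_epi _ y
  obtain ⟨T₃, e₃, he₃, w, hw⟩ := (hq p).exact_up_to_refinements (e₂ ≫ x - x' ≫ sh G p) (by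
    change (e₂ ≫ x - x' ≫ sh G p) ≫ app q p = 0
    rw [Preadditive.sub_comp, Category.assoc, Category.assoc, sh_app, ← hy, ← reassoc_of% hx', sub_self])
  change e₃ ≫ (e₂ ≫ x - x' ≫ sh G p) = w ≫ app φ p at hw
  refine ⟨T₃, e₃ ≫ e₂ ≫ e₁, inferInstance, w ≫ π F p, ?_⟩
  rw [Category.assoc, Category.assoc, Category.assoc, hx, π_grMap, ← reassoc_of% hw,
    Preadditive.sub_comp, Category.assoc, Category.assoc, sh_π, comp_zero, sub_zero]

theorem gr_fst_add_snd (p : ℤ) {X Y : FilF A} {T : A} (z : T ⟶ (grF A p).obj (X ⊞ Y)) :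
    z ≫ (grF A p).map (biprod.fst ≫ biprod.inl : X ⊞ Y ⟶ X ⊞ Y) +
      z ≫ (grF A p).map (biprod.snd ≫ biprod.inr) = z := by
  rw [← Preadditive.comp_add, ← Functor.map_add, biprod.total]
  exact (congrArg (z ≫ ·) ((grF A p).map_id _)).trans (Category.comp_id z)

/-- One step of a filtered injective resolution. -/
theorem exists_resolution_step [EnoughInjectives A] {X₁ X₂ X₃ P I : FilF A} (d₁ : X₁ ⟶ X₂)
    (d₂ : X₂ ⟶ X₃) (hd : d₁ ≫ d₂ = 0) (f : X₁ ⟶ I) (δ : P ⟶ I) (hs : IsStrict (coneD d₁ f δ))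
    (hc : ∀ (p : ℤ) (T : A) (z : T ⟶ (grF A p).obj (X₁ ⊞ P)),
      z ≫ (grF A p).map (biprod.desc f δ) = 0 → z ≫ (grF A p).map (biprod.fst ≫ d₁) = 0) :
    ∃ (J : FilF A) (g : X₂ ⟶ J) (δ' : I ⟶ J), IsFilteredInjective J ∧
      (∀ p, Mono ((grF A p).map g)) ∧ f ≫ δ' = d₁ ≫ g ∧ δ ≫ δ' = 0 ∧
      (∀ (p : ℤ) (T : A) (z : T ⟶ (grF A p).obj (X₂ ⊞ I)),
        z ≫ (grF A p).map (biprod.desc g δ') = 0 →
          ∃ (T' : A) (e : T' ⟶ T) (_ : Epi e) (w : T' ⟶ (grF A p).obj (X₁ ⊞ P)),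
            e ≫ z = w ≫ (grF A p).map (coneD d₁ f δ)) ∧
      IsStrict (coneD d₂ g δ') ∧
      (∀ (p : ℤ) (T : A) (z : T ⟶ (grF A p).obj (X₂ ⊞ I)),
        z ≫ (grF A p).map (biprod.desc g δ') = 0 → z ≫ (grF A p).map (biprod.fst ≫ d₂) = 0) := by
  let ε := coneD d₁ f δ
  let Q : FilF A := ⟨cokernel ε.hom, isFinFil_cokernel ε hs⟩
  let q : X₂ ⊞ I ⟶ Q := ObjectProperty.homMk (cokernel.π ε.hom)
  have hεq : ε ≫ q = 0 := ObjectProperty.hom_ext _ (cokernel.condition ε.hom)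
  obtain ⟨J, u, hJ, hu⟩ := exists_strict_envelope Q
  let g : X₂ ⟶ J := biprod.inl ≫ q ≫ u
  let δ' : I ⟶ J := biprod.inr ≫ q ≫ u
  have hψ : biprod.desc g δ' = q ≫ u := biprod.hom_ext' _ _ (by simp [g]) (by simp [δ'])
  have h0 : ε ≫ biprod.desc g δ' = 0 := by rw [hψ, reassoc_of% hεq, zero_comp]
  have hex : ∀ (p : ℤ) (T : A) (z : T ⟶ (grF A p).obj (X₂ ⊞ I)),
      z ≫ (grF A p).map (biprod.desc g δ') = 0 →
        ∃ (T' : A) (e : T' ⟶ T) (_ : Epi e) (w : T' ⟶ (grF A p).obj (X₁ ⊞ P)),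
          e ≫ z = w ≫ (grF A p).map ε := by
    intro p T z hz
    rw [hψ, Functor.map_comp, ← Category.assoc] at hz
    exact exists_gr_lift_of_cokernel ε hs p z ((cancel_mono ((grF A p).map u)).1 (hz.trans zero_comp.symm))
  have hε₁ : ε ≫ biprod.fst ≫ d₂ = 0 := by
    simp [ε, coneD, hd]
  have hcyc : ∀ (p : ℤ) (T : A) (z : T ⟶ (grF A p).obj (X₂ ⊞ I)),
      z ≫ (grF A p).map (biprod.desc g δ') = 0 → z ≫ (grF A p).map (biprod.fst ≫ d₂) = 0 := by
    intro p T z hz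
    obtain ⟨T', e, he, w, hw⟩ := hex p T z hz
    rw [← cancel_epi e, comp_zero, ← Category.assoc, hw, Category.assoc, ← Functor.map_comp, hε₁,
      Functor.map_zero, comp_zero]
  refine ⟨J, g, δ', hJ, fun p => ?_, ?_, ?_, hex, ?_, hcyc⟩
  · refine Preadditive.mono_of_cancel_zero _ fun {T} z hz => ?_
    obtain ⟨T', e, he, w, hw⟩ := hex p T (z ≫ (grF A p).map biprod.inl) (by
      rw [Category.assoc, ← Functor.map_comp, biprod.inl_desc, hz])
    have h₂ := congrArg (· ≫ (grF A p).map biprod.snd) hw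
    simp only [Category.assoc, ← Functor.map_comp, biprod.inl_snd, ε, coneD, biprod.lift_snd,
      Functor.map_zero, comp_zero] at h₂
    have h₁ := congrArg (· ≫ (grF A p).map biprod.fst) hw
    simp only [Category.assoc, ← Functor.map_comp, biprod.inl_fst, ε, coneD, biprod.lift_fst,
      Functor.map_neg, Preadditive.comp_neg, hc p T' w h₂.symm, neg_zero] at h₁
    rw [← cancel_epi e, comp_zero, ← h₁]
    exact (congrArg (e ≫ ·) ((congrArg (z ≫ ·) ((grF A p).map_id X₂)).trans (Category.comp_id z))).symm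
  · have h₁ : biprod.inl ≫ ε = -(d₁ ≫ biprod.inl) + f ≫ biprod.inr :=
      biprod.hom_ext _ _ (by simp [ε, coneD]) (by simp [ε, coneD])
    have := congrArg (· ≫ biprod.desc g δ') h₁
    simp only [Category.assoc, h0, comp_zero, Preadditive.add_comp, Preadditive.neg_comp,
      biprod.inl_desc, biprod.inr_desc] at this
    exact (neg_add_eq_zero.1 this.symm).symm
  · have h₁ : biprod.inr ≫ ε = δ ≫ biprod.inr :=
      biprod.hom_ext _ _ (by simp [ε, coneD]) (by simp [ε, coneD])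
    have := congrArg (· ≫ biprod.desc g δ') h₁
    simp only [Category.assoc, h0, comp_zero, biprod.inr_desc] at this
    exact this.symm
  · have h₀ : ε ≫ coneD d₂ g δ' = 0 :=
      biprod.hom_ext _ _ (by simp [coneD, hε₁]) (by simp [coneD, h0])
    refine isStrict_g (S := ShortComplex.mk ε (coneD d₂ g δ') h₀) fun p => ?_
    rw [ShortComplex.exact_iff_exact_up_to_refinements]
    intro T (z : T ⟶ (grF A p).obj (X₂ ⊞ I)) (hz : z ≫ (grF A p).map (coneD d₂ g δ') = 0)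
    have h₂ := congrArg (· ≫ (grF A p).map biprod.snd) hz
    simp only [Category.assoc, ← Functor.map_comp, coneD, biprod.lift_snd, zero_comp] at h₂
    exact hex p T z h₂

end Groth.Agent.FilT
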