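import Groth.Agent.Lib.FilT.ResStep
import Mathlib.Algebra.Homology.Refinements
import Mathlib.Algebra.Homology.HomotopyCategory.Shift
import Mathlib.Algebra.Homology.HomotopyCategory.ShiftSequence

/-!
Filtered injective resolutions of bounded below complexes.
-/

set_option autoImplicit false

universe v u

open CategoryTheory CategoryTheory.Limits Opposite FilD ZeroObject

namespace Groth.Agent.FilT

variable {A : Type u} [Category.{v} A] [Abelian A] [EnoughInjectives A]

variable (K : CochainComplex (FilF A) ℤ)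

set_option linter.unusedSectionVars false

theorem comp_map_id (p : ℤ) {X : FilF A} {T : A} (x : T ⟶ (grF A p).obj X) :
    x ≫ (grF A p).map (𝟙 X) = x :=
  (congrArg (x ≫ ·) ((grF A p).map_id X)).trans (Category.comp_id x)

/-- The data at one degree of a resolution under construction. -/
structure Stage (k : ℕ) where
  /-- The term of the resolution. -/
  I : FilF A
  /-- The previous term. -/
  P : FilF A
  /-- The comparison map. -/
  f : K.X (k : ℤ) ⟶ I
  /-- The differential. -/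
  δ : P ⟶ I
  inj : IsFilteredInjective I
  mono : ∀ p, Mono ((grF A p).map f)
  strict : IsStrict (coneD (K.d (k : ℤ) ((k + 1 : ℕ) : ℤ)) f δ)
  cyc : ∀ (p : ℤ) (T : A) (z : T ⟶ (grF A p).obj (K.X (k : ℤ) ⊞ P)),
    z ≫ (grF A p).map (biprod.desc f δ) = 0 →
      z ≫ (grF A p).map (biprod.fst ≫ K.d (k : ℤ) ((k + 1 : ℕ) : ℤ)) = 0

theorem nonempty_stage_zero : ∃ s : Stage K 0, IsZero s.P := by
  obtain ⟨J, u, hJ, hu⟩ := exists_strict_envelope (K.X ((0 : ℕ) : ℤ))
  have hfst : ∀ (p : ℤ) (T : A) (z : T ⟶ (grF A p).obj (K.X ((0 : ℕ) : ℤ) ⊞ (0 : FilF A))),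
      z ≫ (grF A p).map (biprod.desc u 0) = 0 → z = 0 := by
    intro p T z hz
    rw [← gr_fst_add_snd p z, (isZero_zero (FilF A)).eq_of_src (biprod.inr : (0 : FilF A) ⟶ _) 0,
      comp_zero, Functor.map_zero, comp_zero, add_zero]
    have : biprod.desc u (0 : (0 : FilF A) ⟶ J) = biprod.fst ≫ u := biprod.hom_ext' _ _ (by simp) (by simp)
    rw [this, Functor.map_comp, ← Category.assoc] at hz
    rw [Functor.map_comp, ← Category.assoc, (cancel_mono ((grF A p).map u)).1 (hz.trans zero_comp.symm),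
      zero_comp]
  refine ⟨{ I := J, P := 0, f := u, δ := 0, inj := hJ, mono := hu, strict := ?_, cyc := ?_ }, isZero_zero _⟩
  · refine isStrict_of_mono_gr _ fun p => Preadditive.mono_of_cancel_zero _ fun {T} z hz => hfst p T z ?_
    have h₂ := congrArg (· ≫ (grF A p).map biprod.snd) hz
    simpa only [Category.assoc, ← Functor.map_comp, coneD, biprod.lift_snd, zero_comp] using h₂
  · intro p T z hz
    rw [hfst p T z hz, zero_comp]

theorem exists_next {k : ℕ} (s : Stage K k) :
    ∃ t : Stage K (k + 1), ∃ e : t.P = s.I,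
      s.f ≫ eqToHom e.symm ≫ t.δ = K.d (k : ℤ) ((k + 1 : ℕ) : ℤ) ≫ t.f ∧
      s.δ ≫ eqToHom e.symm ≫ t.δ = 0 ∧
      (∀ (p : ℤ) (T : A) (z : T ⟶ (grF A p).obj (K.X ((k + 1 : ℕ) : ℤ) ⊞ s.I)),
        z ≫ (grF A p).map (biprod.desc t.f (eqToHom e.symm ≫ t.δ)) = 0 →
          ∃ (T' : A) (e : T' ⟶ T) (_ : Epi e) (w : T' ⟶ (grF A p).obj (K.X (k : ℤ) ⊞ s.P)),
            e ≫ z = w ≫ (grF A p).map (coneD (K.d (k : ℤ) ((k + 1 : ℕ) : ℤ)) s.f s.δ)) := by
  obtain ⟨J, g, δ', hJ, hg, h₁, h₂, h₃, h₄, h₅⟩ := exists_resolution_step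
    (K.d (k : ℤ) ((k + 1 : ℕ) : ℤ)) (K.d ((k + 1 : ℕ) : ℤ) ((k + 1 + 1 : ℕ) : ℤ))
    (K.d_comp_d _ _ _) s.f s.δ s.strict s.cyc
  refine ⟨⟨J, s.I, g, δ', hJ, hg, h₄, h₅⟩, rfl, ?_, ?_, ?_⟩
  · rw [eqToHom_refl, Category.id_comp]; exact h₁
  · rw [eqToHom_refl, Category.id_comp]; exact h₂
  · intro p T z hz
    rw [eqToHom_refl, Category.id_comp] at hz
    exact h₃ p T z hz

/-- The stages of the resolution. -/
noncomputable def stage : ∀ k, Stage K k
  | 0 => (nonempty_stage_zero K).choose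
  | k + 1 => (exists_next K (stage k)).choose

theorem stage_P (k : ℕ) : (stage K (k + 1)).P = (stage K k).I :=
  (exists_next K (stage K k)).choose_spec.choose

/-- The differential of the resolution. -/
noncomputable def resD (k : ℕ) : (stage K k).I ⟶ (stage K (k + 1)).I :=
  eqToHom (stage_P K k).symm ≫ (stage K (k + 1)).δ

theorem stage_spec (k : ℕ) :
    (stage K k).f ≫ resD K k = K.d (k : ℤ) ((k + 1 : ℕ) : ℤ) ≫ (stage K (k + 1)).f ∧
      (stage K k).δ ≫ resD K k = 0 ∧
      (∀ (p : ℤ) (T : A) (z : T ⟶ (grF A p).obj (K.X ((k + 1 : ℕ) : ℤ) ⊞ (stage K k).I)),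
        z ≫ (grF A p).map (biprod.desc (stage K (k + 1)).f (resD K k)) = 0 →
          ∃ (T' : A) (e : T' ⟶ T) (_ : Epi e) (w : T' ⟶ (grF A p).obj (K.X (k : ℤ) ⊞ (stage K k).P)),
            e ≫ z = w ≫ (grF A p).map
              (coneD (K.d (k : ℤ) ((k + 1 : ℕ) : ℤ)) (stage K k).f (stage K k).δ)) :=
  (exists_next K (stage K k)).choose_spec.choose_spec

theorem resD_comp (k : ℕ) : resD K k ≫ resD K (k + 1) = 0 := by
  have := (stage_spec K (k + 1)).2.1
  rw [resD, Category.assoc, this, comp_zero]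

/-- The terms of the resolution. -/
noncomputable def resX : ℤ → FilF A
  | Int.ofNat k => (stage K k).I
  | Int.negSucc _ => 0

/-- The differentials of the resolution. -/
noncomputable def resd : ∀ n : ℤ, resX K n ⟶ resX K (n + 1)
  | Int.ofNat k => resD K k
  | Int.negSucc _ => 0

theorem resd_comp : ∀ n : ℤ, resd K n ≫ resd K (n + 1) = 0
  | Int.ofNat k => resD_comp K k
  | Int.negSucc _ => zero_comp

/-- The resolution. -/
noncomputable def res : CochainComplex (FilF A) ℤ :=
  CochainComplex.of (resX K) (resd K) (resd_comp K)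

instance : (res K).IsStrictlyGE 0 :=
  ((res K).isStrictlyGE_iff 0).2 fun
    | Int.ofNat k, hi => absurd hi (by simp)
    | Int.negSucc _, _ => isZero_zero _

variable [K.IsStrictlyGE 0]

/-- The comparison map. -/
noncomputable def resf : ∀ n : ℤ, K.X n ⟶ resX K n
  | Int.ofNat k => (stage K k).f
  | Int.negSucc _ => 0

theorem resf_comm : ∀ n : ℤ, resf K n ≫ resd K n = K.d n (n + 1) ≫ resf K (n + 1)
  | Int.ofNat k => (stage_spec K k).1
  | Int.negSucc _ => (CochainComplex.isZero_of_isStrictlyGE K 0 _ (by omega)).eq_of_src _ _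

/-- The comparison morphism. -/
noncomputable def resHom : K ⟶ res K where
  f := resf K
  comm' i j (hij : i + 1 = j) := by
    subst hij
    exact (congrArg (resf K i ≫ ·) (CochainComplex.of_d _ _ _)).trans (resf_comm K i)

theorem inj_resX (hz : IsFilteredInjective (0 : FilF A)) : ∀ n, IsFilteredInjective (resX K n)
  | Int.ofNat k => (stage K k).inj
  | Int.negSucc _ => hz

theorem isFilteredInjective_zero : IsFilteredInjective (0 : FilF A) :=
  fun p => ((grF A p).map_isZero (isZero_zero _)).injective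

theorem mono_resf : ∀ (n : ℤ) (p : ℤ), Mono ((grF A p).map (resf K n))
  | Int.ofNat k, p => (stage K k).mono p
  | Int.negSucc _, p => ⟨fun f g _ =>
      ((grF A p).map_isZero (CochainComplex.isZero_of_isStrictlyGE K 0 _ (by omega))).eq_of_tgt f g⟩

theorem mono_homology_res (p : ℤ) :
    ∀ k : ℕ, Mono (HomologicalComplex.homologyMap ((grCx p).map (resHom K)) (k : ℤ))
  | 0 => by
    rw [HomologicalComplex.mono_homologyMap_iff_up_to_refinements _ (-1) _ 1 (by simp) (by simp)]
    intro T x _ y hy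
    refine ⟨T, 𝟙 T, inferInstance, 0, ?_⟩
    have h0 : ((grCx p).obj (res K)).d (-1) (0 : ℕ) = 0 :=
      ((grF A p).map_isZero (CochainComplex.isZero_of_isStrictlyGE (res K) 0 _ (by omega))).eq_of_src _ _
    rw [h0, comp_zero] at hy
    have := (stage K 0).mono p
    rw [zero_comp, Category.id_comp]
    exact Mono.right_cancellation (self := (stage K 0).mono p) x 0 (hy.trans zero_comp.symm)
  | k + 1 => by
    rw [HomologicalComplex.mono_homologyMap_iff_up_to_refinements _ (k : ℤ) _ ((k + 1 + 1 : ℕ) : ℤ)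
      (by simp) (by simp)]
    intro T (x : T ⟶ (grF A p).obj (K.X ((k + 1 : ℕ) : ℤ))) _ (y : T ⟶ (grF A p).obj (stage K k).I)
      (hy : x ≫ (grF A p).map (stage K (k + 1)).f = y ≫ (grF A p).map ((res K).d (k : ℤ) ((k + 1 : ℕ) : ℤ)))
    have hd : (res K).d (k : ℤ) ((k + 1 : ℕ) : ℤ) = resD K k := CochainComplex.of_d _ _ _
    rw [hd] at hy
    obtain ⟨T', e, he, w, hw⟩ := (stage_spec K k).2.2 p T
      (x ≫ (grF A p).map biprod.inl - y ≫ (grF A p).map biprod.inr) (by
        rw [Preadditive.sub_comp, Category.assoc, Category.assoc, ← Functor.map_comp,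
          ← Functor.map_comp, biprod.inl_desc, biprod.inr_desc]
        exact sub_eq_zero.2 hy)
    have h₁ := congrArg (· ≫ (grF A p).map biprod.fst) hw
    simp only [Category.assoc, Preadditive.sub_comp, Preadditive.comp_sub, ← Functor.map_comp,
      biprod.inl_fst, biprod.inr_fst, Functor.map_zero, comp_zero, sub_zero, coneD, biprod.lift_fst,
      Functor.map_neg, Preadditive.comp_neg, comp_map_id] at h₁
    refine ⟨T', e, he, -(w ≫ (grF A p).map biprod.fst), ?_⟩
    change e ≫ x = (-(w ≫ (grF A p).map biprod.fst)) ≫ (grF A p).map (K.d (k : ℤ) ((k + 1 : ℕ) : ℤ))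
    rw [Preadditive.neg_comp, Category.assoc, ← Functor.map_comp]
    exact h₁

theorem epi_homology_res (p : ℤ) (k : ℕ) :
    Epi (HomologicalComplex.homologyMap ((grCx p).map (resHom K)) (k : ℤ)) := by
  rw [HomologicalComplex.epi_homologyMap_iff_up_to_refinements _ ((k : ℤ) - 1) _ ((k + 1 : ℕ) : ℤ)
    (by simp) (by simp)]
  intro T (y : T ⟶ (grF A p).obj (stage K k).I)
    (hy : y ≫ (grF A p).map ((res K).d (k : ℤ) ((k + 1 : ℕ) : ℤ)) = 0)
  have hd : (res K).d (k : ℤ) ((k + 1 : ℕ) : ℤ) = resD K k := CochainComplex.of_d _ _ _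
  rw [hd] at hy
  obtain ⟨T', e, he, w, hw⟩ := (stage_spec K k).2.2 p T (y ≫ (grF A p).map biprod.inr) (by
    rw [Category.assoc, ← Functor.map_comp, biprod.inr_desc]
    exact hy)
  have h₁ := congrArg (· ≫ (grF A p).map biprod.fst) hw
  simp only [Category.assoc, ← Functor.map_comp, biprod.inr_fst, Functor.map_zero, comp_zero, coneD,
    biprod.lift_fst, Functor.map_neg, Preadditive.comp_neg] at h₁
  have h₂ := congrArg (· ≫ (grF A p).map biprod.snd) hw
  simp only [Category.assoc, ← Functor.map_comp, biprod.inr_snd, coneD, biprod.lift_snd, comp_map_id] at h₂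
  have h₂' : e ≫ y = w ≫ (grF A p).map biprod.fst ≫ (grF A p).map (stage K k).f +
      w ≫ (grF A p).map biprod.snd ≫ (grF A p).map (stage K k).δ := by
    rw [← Preadditive.comp_add, ← Functor.map_comp, ← Functor.map_comp, ← Functor.map_add,
      ← biprod.desc_eq]
    exact h₂
  obtain ⟨v, hv⟩ : ∃ v : T' ⟶ ((grCx p).obj (res K)).X ((k : ℤ) - 1),
      v ≫ ((grCx p).obj (res K)).d ((k : ℤ) - 1) k =
        w ≫ (grF A p).map biprod.snd ≫ (grF A p).map (stage K k).δ := by
    cases k with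
    | zero =>
      refine ⟨0, ?_⟩
      have h₀ : (grF A p).map (stage K 0).δ = 0 :=
        ((grF A p).map_isZero ((nonempty_stage_zero K).choose_spec : IsZero (stage K 0).P)).eq_of_src _ _
      rw [zero_comp, h₀, comp_zero, comp_zero]
      rfl
    | succ m =>
      rw [show ((m + 1 : ℕ) : ℤ) - 1 = (m : ℤ) by omega]
      refine ⟨w ≫ (grF A p).map (biprod.snd ≫ eqToHom (stage_P K m)), ?_⟩
      change (w ≫ (grF A p).map (biprod.snd ≫ eqToHom (stage_P K m))) ≫
        (grF A p).map ((res K).d (m : ℤ) ((m + 1 : ℕ) : ℤ)) = _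
      have hd' : (res K).d (m : ℤ) ((m + 1 : ℕ) : ℤ) = resD K m := CochainComplex.of_d _ _ _
      rw [hd']
      have key : (biprod.snd ≫ eqToHom (stage_P K m) :
          K.X ((m + 1 : ℕ) : ℤ) ⊞ (stage K (m + 1)).P ⟶ (stage K m).I) ≫ resD K m =
            biprod.snd ≫ (stage K (m + 1)).δ := by simp [resD]
      exact (Category.assoc _ _ _).trans (congrArg (w ≫ ·)
        ((((grF A p).map_comp _ _).symm.trans (congrArg (grF A p).map key)).trans ((grF A p).map_comp _ _)))
  refine ⟨T', e, he, w ≫ (grF A p).map biprod.fst, ?_, v, ?_⟩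
  · change (w ≫ (grF A p).map biprod.fst) ≫ (grF A p).map (K.d (k : ℤ) ((k + 1 : ℕ) : ℤ)) = 0
    rw [Category.assoc, ← Functor.map_comp]
    exact neg_eq_zero.1 h₁.symm
  · rw [hv]
    exact h₂'.trans (congrArg (· + _) (Category.assoc _ _ _).symm)

theorem isFilteredQuasiIso_resHom : IsFilteredQuasiIso (resHom K) := fun p => ⟨fun n => by
  rw [quasiIsoAt_iff_isIso_homologyMap]
  match n with
  | Int.ofNat k =>
    have := mono_homology_res K p k
    have := epi_homology_res K p k
    exact isIso_of_mono_of_epi _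
  | Int.negSucc k =>
    have h : ∀ L : CochainComplex (FilF A) ℤ, L.IsStrictlyGE 0 →
        IsZero (((grCx p).obj L).homology (Int.negSucc k)) := fun L _ =>
      (((grCx p).obj L).exactAt_iff_isZero_homology _).1 (ShortComplex.exact_of_isZero_X₂ _
        ((grF A p).map_isZero (CochainComplex.isZero_of_isStrictlyGE L 0 _ (by omega))))
    exact isIso_of_source_target_iso_zero _ (h K inferInstance).isoZero (h (res K) inferInstance).isoZero⟩


omit [K.IsStrictlyGE 0] in
/-- Filtered injective resolutions of bounded below complexes of filtered objects. -/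
theorem exists_resolution (a : ℤ) [K.IsStrictlyGE a] :
    ∃ (I : CochainComplex (FilF A) ℤ) (φ : K ⟶ I), I.IsStrictlyGE a ∧
      (∀ n, IsFilteredInjective (I.X n)) ∧ IsFilteredQuasiIso φ ∧
      ∀ n p, Mono ((grF A p).map (φ.f n)) := by
  have := K.isStrictlyGE_shift a a 0 (by omega)
  let ψ := resHom (K⟦a⟧)
  let e : K ≅ (K⟦a⟧)⟦-a⟧ := (shiftEquiv (CochainComplex (FilF A) ℤ) a).unitIso.app K
  refine ⟨(res (K⟦a⟧))⟦-a⟧, e.hom ≫ ψ⟦-a⟧', ?_, fun n => ?_, fun p => ?_, fun n p => ?_⟩
  · exact (res (K⟦a⟧)).isStrictlyGE_shift 0 (-a) a (by omega)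
  · exact inj_resX _ isFilteredInjective_zero _
  · have hq : _root_.QuasiIso (((grCx p).map ψ)⟦-a⟧') := by
      rw [CochainComplex.quasiIso_shift_iff]
      exact isFilteredQuasiIso_resHom _ p
    let c := (grCx (A := A) p).commShiftIso (-a)
    have : _root_.QuasiIso ((grCx p).map (ψ⟦-a⟧')) := by
      have h : (grCx p).map (ψ⟦-a⟧') = c.hom.app _ ≫ ((grCx p).map ψ)⟦-a⟧' ≫ c.inv.app _ := by
        rw [← Category.assoc, show c.hom.app _ ≫ ((grCx p).map ψ)⟦-a⟧' =
          (grCx p).map (ψ⟦-a⟧') ≫ c.hom.app _ from (c.hom.naturality ψ).symm, Category.assoc,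
          Iso.hom_inv_id_app]
        exact (Category.comp_id _).symm
      rw [h]
      infer_instance
    rw [Functor.map_comp]
    infer_instance
  · have := mono_resf (K⟦a⟧) (n + -a) p
    have hi : IsIso (e.hom.f n) := (((HomologicalComplex.eval _ _ n).mapIso e)).isIso_hom
    have key : ∀ {X Y Z : FilF A} (i : X ⟶ Y) [IsIso i] (j : Y ⟶ Z), Mono ((grF A p).map j) →
        Mono ((grF A p).map (i ≫ j)) := fun i _ j _ => by
      rw [Functor.map_comp]
      exact mono_comp _ _
    exact @key _ (((K⟦a⟧)).X (n + -a)) _ (e.hom.f n) hi (resf (K⟦a⟧) (n + -a)) this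

end Groth.Agent.FilT
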